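import Cfsg.Agent.USixType.Ext.Outer

/-!
# The subgroup of index two
-/

set_option autoImplicit false
set_option Elab.async false
set_option maxRecDepth 100000
set_option linter.style.haveILetI false

namespace Cfsg.Lib.USixType.Ext

open Subgroup MulAction

universe u

variable {G : Type u} [Group G] {z : G} {J : Subgroup G}

theorem moves : ∀ i : Fin 45, ∀ a : Fin 4, ∃ v : Fin 256, tv (ctr i) ⟨v⟩ + ⟨v⟩ = sm a.val (ctr i) := by decide +kernel

namespace ECoord

theorem exists_t (c : ECoord z J) : ∃ t, Commute t z ∧ c.π t ∉ U ∧ (t * t = 1 ∨ t * t = z) ∧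
    (∀ q ∈ J, c.π t (c.β q) = c.β q → Commute t q) ∧ Semi (c.π t) ∧ c.π t * c.π t = 1 := by
  obtain ⟨a, ha, hρ, hρ2, halt⟩ := c.outer
  have hm : a * a ∈ J := (c.π_ker _ (ha.mul_left ha)).1 (by rw [c.π_mul a a ha ha, hρ2])
  have hr : c.π a (c.β (a * a)) = c.β (a * a) := by
    rw [← c.equiv a ha _ hm]; congr 1; group
  obtain ⟨p, hp, hpv⟩ := c.β_surj (sm 2 (c.β (a * a)))
  set t := a * p with htdef
  have ht : Commute t z := ha.mul_left (c.le p hp)
  have hπ : c.π t = c.π a := by rw [c.π_mul a p ha (c.le p hp), c.π_of_mem hp, mul_one]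
  have hU : c.π t ∉ U := fun e => not_lin_semi (lin_of_mem e) (hπ ▸ hρ)
  have hconj : a⁻¹ * p * a ∈ J := by
    have := c.norm a⁻¹ ha.inv_left p hp
    rwa [inv_inv] at this
  have hinv : (c.π a)⁻¹ = c.π a := inv_eq_of_mul_eq_one_left hρ2
  have hβ0 : c.β (t * t) = 0 := by
    have e := c.equiv a⁻¹ ha.inv_left p hp
    rw [inv_inv, c.π_inv ha, hinv] at e
    rw [htdef, show a * p * (a * p) = a * a * ((a⁻¹ * p * a) * p) by group, c.β_mul _ hm _ (mul_mem hconj hp),
      c.β_mul _ hconj _ hp, e, hpv, add_comm (c.π a _), fixed_image hρ hr, Vt.add_self]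
  have htt : t * t = 1 ∨ t * t = z := (c.β_ker _ (by
    rw [htdef, show a * p * (a * p) = a * a * ((a⁻¹ * p * a) * p) by group]
    exact mul_mem hm (mul_mem hconj hp))).1 hβ0
  refine ⟨t, ht, hU, htt, fun q hq hfix => ?_, hπ ▸ hρ, by rw [hπ, hρ2]⟩
  rw [hπ] at hfix
  obtain ⟨w, hw, hwv⟩ := c.β_surj (sm 2 (c.β q))
  have h0 : t * w * t⁻¹ * w⁻¹ ∈ J := mul_mem (c.norm t ht w hw) (inv_mem hw)
  have hb : c.β (t * w * t⁻¹ * w⁻¹) = c.β q := by
    rw [c.β_mul _ (c.norm t ht w hw) _ (inv_mem hw), c.β_inv hw, c.equiv t ht w hw, hπ, hwv, add_comm,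
      fixed_image hρ hfix]
  obtain ⟨b, hq'⟩ := c.eq_or_mul_z h0 hq hb
  have hQ : Q (c.β (t * w * t⁻¹ * w⁻¹)) = false := by
    rw [hb, Q]
    simp [halt _ hfix]
  have hinvol : (t * w * t⁻¹ * w⁻¹)⁻¹ = t * w * t⁻¹ * w⁻¹ := inv_eq_of_mul_eq_one_left (by
    rw [c.sq _ h0, hQ]; rfl)
  have hctt : Commute (t * t) w := by
    rcases htt with e | e <;> rw [e]
    · exact Commute.one_left w
    · exact (c.le w hw).symm
  have h1 : Commute t (t * w * t⁻¹ * w⁻¹) := by
    refine mul_inv_eq_iff_eq_mul.1 ?_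
    conv_rhs => rw [← hinvol]
    rw [show t * (t * w * t⁻¹ * w⁻¹) * t⁻¹ = (t * t) * w * (t * t)⁻¹ * (t * w⁻¹ * t⁻¹) by group, hctt.eq,
      mul_inv_cancel_right]
    group
  rw [hq']
  exact h1.mul_right (Coord.zp_comm ht b)

variable [Finite G] (c : ECoord z J)

/-- Linear or not. -/
noncomputable def sign : ↥(centralizer ({z} : Set G)) →* ℤˣ := by
  classical
  exact
  { toFun := fun h => if c.π h ∈ U then 1 else -1
    map_one' := by rw [if_pos]; rw [Subgroup.coe_one, c.π_one]; exact one_mem U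
    map_mul' := fun a b => by
      have ha : Commute (a : G) z := mem_centralizer_singleton_iff.1 a.2
      have hb : Commute (b : G) z := mem_centralizer_singleton_iff.1 b.2
      rw [Subgroup.coe_mul]
      by_cases h1 : c.π a ∈ U <;> by_cases h2 : c.π b ∈ U <;> simp only [h1, h2, if_true, if_false]
      · rw [if_pos (by rw [c.π_mul _ _ ha hb]; exact mul_mem h1 h2)]; rfl
      · rw [if_neg (fun e => h2 (by
          rw [c.π_mul _ _ ha hb] at e
          have := mul_mem (inv_mem h1) e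
          rwa [inv_mul_cancel_left] at this))]; rfl
      · rw [if_neg (fun e => h1 (by
          rw [c.π_mul _ _ ha hb] at e
          have := mul_mem e (inv_mem h2)
          rwa [mul_inv_cancel_right] at this))]; rfl
      · rw [if_pos (c.π_semi _ _ ha hb h1 h2)]; rfl }

theorem sign_eq_neg {h : ↥(centralizer ({z} : Set G))} : c.sign h = -1 ↔ c.π h ∉ U := by
  classical
  show (if c.π (h : G) ∈ U then (1 : ℤˣ) else -1) = -1 ↔ _
  split <;> simp_all

set_option maxHeartbeats 1000000 in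
/-- The transfer is not trivial. -/
theorem transfer_ne : ∃ t, Commute t z ∧ c.π t ∉ U ∧ MonoidHom.transfer c.sign t = -1 := by
  classical
  obtain ⟨t, ht, htU, htt, hcomm, hρ, hρ2⟩ := c.exists_t
  refine ⟨t, ht, htU, ?_⟩
  set C := centralizer ({z} : Set G) with hC
  letI : Fintype (Quotient (orbitRel (zpowers t) (G ⧸ C))) := Fintype.ofFinite _
  rw [MonoidHom.transfer_eq_prod_quotient_orbitRel_zpowers_quot]
  set f : Quotient (orbitRel (zpowers t) (G ⧸ C)) → ℤˣ := fun q =>
    c.sign ⟨q.out.out⁻¹ * t ^ Function.minimalPeriod (t • ·) q.out * q.out.out,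
      QuotientGroup.out_conj_pow_minimalPeriod_mem C t q.out⟩
  set S : Set (G ⧸ C) := {x | t • x = x ∧ c.π (x.out⁻¹ * t * x.out) ∉ U}
  -- only fixed points count
  have ht4 : t ^ 4 = 1 := by
    rw [show 4 = 2 * 2 from rfl, pow_mul, pow_two t]
    rcases htt with e | e <;> rw [e]
    · exact one_pow _
    · rw [pow_two, c.z_sq]
  have hzval : ∀ x : G, x⁻¹ * z * x ∈ C → c.π (x⁻¹ * z * x) ∈ U := fun x hx => by
    have := c.no_outer (g := x⁻¹) (by rw [inv_inv]; exact mem_centralizer_singleton_iff.1 hx)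
    rwa [inv_inv] at this
  have hone : ∀ q, f q = -1 → Function.minimalPeriod (t • ·) q.out = 1 ∧ q.out ∈ S := by
    intro q hq
    have hn : Function.minimalPeriod (t • ·) q.out ∣ 4 :=
      pow_smul_eq_iff_minimalPeriod_dvd.1 (by rw [ht4, one_smul])
    have hneg := (c.sign_eq_neg).1 hq
    simp only at hneg
    have hm := QuotientGroup.out_conj_pow_minimalPeriod_mem C t q.out
    have hfix := pow_smul_eq_iff_minimalPeriod_dvd.2 (dvd_refl (Function.minimalPeriod (t • ·) q.out))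
    generalize Function.minimalPeriod (t • ·) q.out = n at hn hneg hm hfix ⊢
    have hcases : n = 1 ∨ n = 2 ∨ n = 4 := by
      have := Nat.le_of_dvd (by norm_num) hn
      interval_cases n <;> revert hn <;> decide
    rcases hcases with rfl | rfl | rfl
    · rw [pow_one] at hfix hneg
      exact ⟨rfl, hfix, hneg⟩
    · exfalso
      rw [pow_two] at hneg hm
      rcases htt with e | e <;> rw [e] at hneg hm
      · exact hneg (by rw [mul_one, inv_mul_cancel, c.π_one]; exact one_mem U)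
      · exact hneg (hzval _ hm)
    · exfalso
      rw [ht4, mul_one, inv_mul_cancel, c.π_one] at hneg
      exact hneg (one_mem U)
  have hback : ∀ x ∈ S, ∃ q, f q = -1 ∧ q.out = x := fun x hx => by
    refine ⟨Quotient.mk'' x, ?_⟩
    have hout : (Quotient.mk'' x : Quotient (orbitRel (zpowers t) (G ⧸ C))).out = x := by
      have hr := Quotient.mk_out (s := orbitRel (zpowers t) (G ⧸ C)) x
      obtain ⟨⟨_, n, rfl⟩, e⟩ := hr
      rw [← e]
      exact mem_stabilizer_iff.1 (zpow_mem (mem_stabilizer_iff.2 hx.1) n)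
    refine ⟨(c.sign_eq_neg).2 ?_, hout⟩
    simp only
    rw [hout, (Function.minimalPeriod_eq_one_iff_isFixedPt (f := (t • ·)) (x := x)).2 hx.1, pow_one]
    exact hx.2
  have hcard : (Finset.univ.filter fun q => f q = -1).card = Nat.card S := by
    haveI : Fintype S := Fintype.ofFinite _
    rw [Nat.card_eq_fintype_card, ← Finset.card_univ (α := S)]
    refine Finset.card_bij (fun q hq => ⟨q.out, (hone q (Finset.mem_filter.1 hq).2).2⟩) (fun _ _ => Finset.mem_univ _)
      (fun a _ b _ e => Quotient.out_injective (congrArg Subtype.val e)) fun x _ => ?_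
    obtain ⟨q, hq, e⟩ := hback x x.2
    exact ⟨q, Finset.mem_filter.2 ⟨Finset.mem_univ _, hq⟩, Subtype.ext e⟩
  -- parity
  let Q0 : Subgroup G :=
    { carrier := {q | q ∈ J ∧ c.π t (c.β q) = c.β q}
      one_mem' := ⟨one_mem J, by rw [c.β_one]; exact hρ.map_zero⟩
      mul_mem' := fun {a b} ha hb => ⟨mul_mem ha.1 hb.1, by rw [c.β_mul a ha.1 b hb.1, hρ.map_add, ha.2, hb.2]⟩
      inv_mem' := fun {a} ha => ⟨inv_mem ha.1, by rw [c.β_inv ha.1, ha.2]⟩ }
  have hzQ : z ∈ Q0 := ⟨c.mem, by rw [c.β_z]; exact hρ.map_zero⟩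
  have hQt : ∀ q : ↥Q0, Commute t q := fun q => hcomm q q.2.1 q.2.2
  have hinvS : ∀ (q : ↥Q0) (x : G ⧸ C), x ∈ S → (q : G) • x ∈ S := by
    intro q x hx
    refine ⟨by rw [smul_smul, (hQt q).eq, ← smul_smul, hx.1], ?_⟩
    have hm : x.out⁻¹ * t * x.out ∈ C := by
      have := QuotientGroup.out_conj_pow_minimalPeriod_mem C t x
      rwa [(Function.minimalPeriod_eq_one_iff_isFixedPt (f := (t • ·)) (x := x)).2 hx.1, pow_one] at this
    obtain ⟨k, hk⟩ : ∃ k : ↥C, ((q : G) • x).out = (q : G) * x.out * k := by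
      have e : (((q : G) • x).out : G ⧸ C) = (((q : G) * x.out : G) : G ⧸ C) := by
        rw [QuotientGroup.out_eq', ← smul_eq_mul, ← Quotient.coe_smul_out]
      exact ⟨⟨_, QuotientGroup.eq.1 e.symm⟩, (mul_inv_cancel_left _ _).symm⟩
    rw [hk]
    have e : ((q : G) * x.out * k)⁻¹ * t * ((q : G) * x.out * k) = (k : G)⁻¹ * (x.out⁻¹ * t * x.out) * k := by
      rw [show ((q : G) * x.out * k)⁻¹ * t * ((q : G) * x.out * k) =
        (k : G)⁻¹ * x.out⁻¹ * ((q : G)⁻¹ * (t * q)) * x.out * k by group, (hQt q).eq, inv_mul_cancel_left]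
      group
    rw [e]
    have h1 : c.sign (k⁻¹ * ⟨_, hm⟩ * k) = -1 := by
      rw [map_mul, map_mul, mul_comm (c.sign k⁻¹), mul_assoc, ← map_mul, inv_mul_cancel, map_one, mul_one]
      exact (c.sign_eq_neg).2 hx.2
    simpa using (c.sign_eq_neg).1 h1
  letI : MulAction ↥Q0 S :=
    { smul := fun q x => ⟨(q : G) • x.1, hinvS q x.1 x.2⟩
      one_smul := fun x => Subtype.ext (one_smul G x.1)
      mul_smul := fun a b x => Subtype.ext (mul_smul (a : G) b x.1) }
  have hp : IsPGroup 2 ↥Q0 :=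
    (IsPGroup.of_card (n := 9) c.card).to_le (fun q hq => hq.1)
  haveI : Fact (Nat.Prime 2) := ⟨Nat.prime_two⟩
  have hmod := hp.card_modEq_card_fixedPoints S
  have hone' : ((1 : G) : G ⧸ C) ∈ S := by
    refine ⟨?_, ?_⟩
    · show ((t • (1 : G) : G) : G ⧸ C) = _
      rw [smul_eq_mul, mul_one, QuotientGroup.eq, mul_one]
      exact C.inv_mem (mem_centralizer_singleton_iff.2 ht.eq)
    · obtain ⟨k, hk⟩ : ∃ k : ↥C, ((1 : G) : G ⧸ C).out = k :=
        ⟨⟨_, by
          have := QuotientGroup.eq.1 (QuotientGroup.out_eq' ((1 : G) : G ⧸ C)).symm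
          rwa [inv_one, one_mul] at this⟩, rfl⟩
      rw [hk]
      have h1 : c.sign (k⁻¹ * ⟨t, mem_centralizer_singleton_iff.2 ht.eq⟩ * k) = -1 := by
        rw [map_mul, map_mul, mul_comm (c.sign k⁻¹), mul_assoc, ← map_mul, inv_mul_cancel, map_one, mul_one]
        exact (c.sign_eq_neg).2 htU
      simpa using (c.sign_eq_neg).1 h1
  have hfp : fixedPoints ↥Q0 S = {⟨_, hone'⟩} := by
    ext x
    constructor
    · intro hx
      refine Set.mem_singleton_iff.2 (Subtype.ext ?_)
      set g := x.1.out with hg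
      have hfix : ∀ y : G, y • x.1 = x.1 → Commute y (g * z * g⁻¹) := fun y hy => by
        have e : ((y * g : G) : G ⧸ C) = (g : G ⧸ C) := by
          rw [← smul_eq_mul, ← MulAction.Quotient.smul_coe, hg, QuotientGroup.out_eq', hy]
        have := mem_centralizer_singleton_iff.1 (QuotientGroup.eq.1 e)
        show y * (g * z * g⁻¹) = g * z * g⁻¹ * y
        have e2 : (y * g)⁻¹ * g * z = z * ((y * g)⁻¹ * g) := this
        calc y * (g * z * g⁻¹) = y * g * (z * ((y * g)⁻¹ * g)) * g⁻¹ * y := by group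
          _ = y * g * ((y * g)⁻¹ * g * z) * g⁻¹ * y := by rw [e2]
          _ = _ := by group
      have hq : ∀ q : ↥Q0, Commute (q : G) (g * z * g⁻¹) := fun q =>
        hfix q (congrArg Subtype.val (hx q))
      have hsz : Commute (g * z * g⁻¹) z := (hq ⟨z, hzQ⟩).symm
      have hst : Commute t (g * z * g⁻¹) := hfix t x.2.1
      have hin := c.no_outer hsz
      have h1 : c.π (g * z * g⁻¹) = 1 := ext_lin hρ hρ2 (lin_of_mem hin) fun r hr => by
        obtain ⟨q, hqJ, rfl⟩ := c.β_surj r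
        rw [← c.equiv _ hsz q hqJ, (hq ⟨q, hqJ, hr⟩).symm.eq, mul_inv_cancel_right]
      have hgz := c.weak_closed ((c.π_ker _ hsz).1 h1)
      rw [← QuotientGroup.out_eq' x.1, ← hg, QuotientGroup.eq, mul_one]
      exact C.inv_mem (mem_centralizer_singleton_iff.2 (mul_inv_eq_iff_eq_mul.1 hgz))
    · intro hx
      rw [Set.mem_singleton_iff.1 hx]
      intro q
      refine Subtype.ext ?_
      show (((q : G) • (1 : G) : G) : G ⧸ C) = _
      rw [smul_eq_mul, mul_one, QuotientGroup.eq, mul_one]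
      exact C.inv_mem (mem_centralizer_singleton_iff.2 (c.le q q.2.1).eq)
  have hodd : Odd (Nat.card S) := by
    simp only [hfp, Nat.card_coe_set_eq, Set.ncard_singleton] at hmod
    rw [Nat.card_coe_set_eq]
    exact Nat.odd_iff.2 hmod
  have hprod : ∏ q, f q = (-1 : ℤˣ) ^ (Finset.univ.filter fun q => f q = -1).card := by
    rw [← Finset.prod_filter_mul_prod_filter_not Finset.univ (fun q => f q = -1), Finset.prod_eq_one
      (s := Finset.univ.filter fun q => ¬f q = -1) (fun q hq =>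
        (Int.units_eq_one_or (f q)).resolve_right (Finset.mem_filter.1 hq).2), mul_one,
      Finset.prod_congr rfl (fun q hq => (Finset.mem_filter.1 hq).2), Finset.prod_const]
  show ∏ q, f q = -1
  rw [hprod, hcard, hodd.neg_one_pow]

/-- A subgroup of index two meeting the centraliser in the linear elements. -/
theorem exists_index_two : ∃ M : Subgroup G, M.index = 2 ∧ M ⊓ centralizer ({z} : Set G) = c.inner := by
  classical
  obtain ⟨t, ht, htU, hVt⟩ := c.transfer_ne
  set V := MonoidHom.transfer c.sign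
  have hsq : ∀ x : G, V (x * x) = 1 := fun x => by rw [map_mul]; exact Int.units_mul_self _
  have hcomm : ∀ x y : G, V (x * y * x⁻¹ * y⁻¹) = 1 := fun x y => by
    rw [map_mul, map_mul, map_mul, map_inv, map_inv, mul_comm (V x), mul_assoc (V y), mul_inv_cancel, mul_one,
      mul_inv_cancel]
  have hVz : V z = 1 := by
    obtain ⟨q, hq, e⟩ := c.β_surj ⟨1⟩
    have := c.sq q hq
    rw [e, show Q (⟨1⟩ : Vt) = true by decide +kernel] at this
    rw [show z = q * q from this.symm, hsq]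
  have hVzp : ∀ b, V (zp z b) = 1 := fun b => by cases b <;> simp [zp, hVz]
  have hVJ : ∀ q ∈ J, V q = 1 := by
    have key : ∀ v, ∃ q ∈ J, V q = 1 ∧ c.β q = v := by
      have hsm : ∀ i : Fin 45, ∀ a : Fin 4, ∃ q ∈ J, V q = 1 ∧ c.β q = sm a.val (ctr i) := fun i a => by
        obtain ⟨v, hv⟩ := moves i a
        obtain ⟨x, hx, ex⟩ := c.π_surj _ (tvP_mem i)
        obtain ⟨p, hp, ep⟩ := c.β_surj ⟨v⟩
        refine ⟨x * p * x⁻¹ * p⁻¹, mul_mem (c.norm x hx p hp) (inv_mem hp), hcomm x p, ?_⟩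
        rw [c.β_mul _ (c.norm x hx p hp) _ (inv_mem hp), c.β_inv hp, c.equiv x hx p hp, ex, ep, tvP_apply, hv]
      intro v
      induction v using induct_bas with
      | h0 => exact ⟨1, one_mem J, map_one V, c.β_one⟩
      | hadd u w hu hw =>
        obtain ⟨p, hp, p1, rfl⟩ := hu
        obtain ⟨q, hq, q1, rfl⟩ := hw
        exact ⟨p * q, mul_mem hp hq, by rw [map_mul, p1, q1, one_mul], c.β_mul p hp q hq⟩
      | hb k =>
        obtain ⟨i, a, j, b, e⟩ := span_iso k
        obtain ⟨p, hp, p1, ep⟩ := hsm i a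
        obtain ⟨q, hq, q1, eq'⟩ := hsm j b
        exact ⟨p * q, mul_mem hp hq, by rw [map_mul, p1, q1, one_mul], by rw [c.β_mul p hp q hq, ep, eq', e]⟩
    intro q hq
    obtain ⟨p, hp, p1, e⟩ := key (c.β q)
    obtain ⟨b, rfl⟩ := c.eq_or_mul_z hp hq e
    rw [map_mul, p1, hVzp, one_mul]
  let T : Subgroup ↥U :=
    { carrier := {g | ∃ h, Commute h z ∧ V h = 1 ∧ c.π h = g.1}
      one_mem' := ⟨1, Commute.one_left z, map_one V, c.π_one⟩
      mul_mem' := by
        rintro a b ⟨p, hp, p1, ea⟩ ⟨q, hq, q1, eb⟩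
        exact ⟨p * q, hp.mul_left hq, by rw [map_mul, p1, q1, one_mul], by
          rw [c.π_mul p q hp hq, ea, eb]; rfl⟩
      inv_mem' := by
        rintro a ⟨p, hp, p1, ea⟩
        exact ⟨p⁻¹, hp.inv_left, by rw [map_inv, p1, inv_one], by rw [c.π_inv hp, ea]; rfl⟩ }
  have hT : commutator ↥U ≤ T := by
    rw [commutator_eq_closure, Subgroup.closure_le]
    rintro _ ⟨a, b, rfl⟩
    obtain ⟨x, hx, ex⟩ := c.π_surj _ a.2
    obtain ⟨y, hy, ey⟩ := c.π_surj _ b.2
    refine ⟨x * y * x⁻¹ * y⁻¹, ((hx.mul_left hy).mul_left hx.inv_left).mul_left hy.inv_left, hcomm x y, ?_⟩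
    rw [c.π_mul _ _ ((hx.mul_left hy).mul_left hx.inv_left) hy.inv_left, c.π_mul _ _ (hx.mul_left hy) hx.inv_left,
      c.π_mul _ _ hx hy, c.π_inv hx, c.π_inv hy, ex, ey]
    rfl
  haveI := simple_U
  have htop : commutator ↥U = ⊤ := by
    rcases (Subgroup.Normal.eq_bot_or_eq_top (inferInstance : (commutator ↥U).Normal)) with e | e
    · exfalso
      have h1 : (⟨tvP 0, tvP_mem 0⟩ : ↥U) * ⟨tvP 1, tvP_mem 1⟩ * (⟨tvP 0, tvP_mem 0⟩ : ↥U)⁻¹ *
          (⟨tvP 1, tvP_mem 1⟩ : ↥U)⁻¹ ∈ commutator ↥U := by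
        rw [commutator_eq_closure]
        exact subset_closure ⟨_, _, rfl⟩
      rw [e, Subgroup.mem_bot, mul_inv_eq_one, mul_inv_eq_iff_eq_mul] at h1
      have h2 := (USixType.commute_iff 0 1).1 (congrArg Subtype.val h1)
      revert h2
      decide +kernel
    · exact e
  have hinner : ∀ h ∈ c.inner, V h = 1 := by
    intro h hh
    obtain ⟨k, hk, k1, ek⟩ := hT (htop ▸ Subgroup.mem_top (⟨c.π h, hh.2⟩ : ↥U))
    have hJ' : k⁻¹ * h ∈ J := (c.π_ker _ (hk.inv_left.mul_left hh.1)).1 (by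
      rw [c.π_mul _ _ hk.inv_left hh.1, c.π_inv hk, ek, inv_mul_cancel])
    have := hVJ _ hJ'
    rwa [map_mul, map_inv, k1, inv_one, one_mul] at this
  refine ⟨V.ker, ?_, le_antisymm ?_ fun h hh => ⟨hinner h hh, mem_centralizer_singleton_iff.2 hh.1.eq⟩⟩
  · rw [Subgroup.index_ker, show V.range = ⊤ from top_le_iff.1 fun u _ => ?_, Subgroup.card_top,
      Nat.card_eq_fintype_card]
    · rfl
    · rcases Int.units_eq_one_or u with rfl | rfl
      · exact one_mem _
      · exact ⟨t, hVt⟩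
  · rintro h ⟨hV, hh⟩
    have hhz : Commute h z := mem_centralizer_singleton_iff.1 hh
    refine ⟨hhz, ?_⟩
    by_contra hU
    have e := hinner (h * t) ⟨hhz.mul_left ht, c.π_semi h t hhz ht hU htU⟩
    rw [map_mul, show V h = 1 from hV, one_mul, hVt] at e
    exact absurd e (by decide)

end ECoord

end Cfsg.Lib.USixType.Ext
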