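import Cfsg.Agent.USixType.Ext.Exists
import Cfsg.Agent.USixType.Ext.Transfer
import Cfsg.Agent.InvolCalc.ZStarApps
import Cfsg.Agent.Components.PComponents
import Cfsg.Agent.S1185
import Cfsg.Agent.S0280
import Cfsg.Agent.S0814
import Cfsg.Prelude.Def_CaseTheorems

/-!
# The recognition with the automorphism group above the core
-/

set_option autoImplicit false
set_option Elab.async false
set_option maxRecDepth 100000
set_option linter.style.haveILetI false

namespace Cfsg.Lib.USixType.Ext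

open Subgroup

universe u v w

/-- The recognition with the simple group above the core. -/
def LinearGoal : Prop := ∀ {G : Type u} [Group G] [Finite G] (z : G), orderOf z = 2 →
  ∀ {F : Type v} [Field F] [Fintype F], Fintype.card F = 3 → ∀ {K : Type w} [Field K] [Fintype K], Fintype.card K = 4 →
  Cfsg.IsExtraspecial 2 ↥(Cfsg.pCore 2 ↥(centralizer ({z} : Set G))) →
  Nat.card ↥(Cfsg.pCore 2 ↥(centralizer ({z} : Set G))) = 2 ^ 9 →
  centralizer ((Cfsg.pCore 2 ↥(centralizer ({z} : Set G))) : Set ↥(centralizer ({z} : Set G))) ≤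
    Cfsg.pCore 2 ↥(centralizer ({z} : Set G)) →
  ∀ [(Cfsg.pCore 2 ↥(centralizer ({z} : Set G))).Normal],
  ((↥(centralizer ({z} : Set G)) ⧸ Cfsg.pCore 2 ↥(centralizer ({z} : Set G))) ≃* Cfsg.PSp 2 F) →
  Nonempty (G ≃* Cfsg.PSU 6 K 2) ∨ centralizer ({z} : Set G) ⊔ Cfsg.oddCore G = ⊤

/-- Without the natural module there is no fusion. -/
def FixedGoal : Prop := ∀ {G : Type u} [Group G] [Finite G] {z : G} {J : Subgroup G} {P : Type v} [Group P]
  (S : OuterSetting z J P), ¬ S.NoFix → ∀ g : G, Commute (g * z * g⁻¹) z → g * z * g⁻¹ = z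

/-- An isolated involution. -/
theorem sup_oddCore {G : Type u} [Group G] [Finite G] {j : G} (hiso : Cfsg.IsIsolatedInvolution j) :
    centralizer ({j} : Set G) ⊔ Cfsg.oddCore G = ⊤ := by
  rw [eq_top_iff]
  intro g _
  obtain ⟨k, ⟨⟨hk, hkinv⟩, hgk⟩, -⟩ := Cfsg.Agent.S1185.result j hiso g
  have hkO : k ∈ Cfsg.oddCore G := by
    have h1 := Cfsg.Lib.ZStarApps.zstarProp hiso k
    rw [hkinv] at h1
    have h2 : k * k ∈ Cfsg.oddCore G := by
      have := inv_mem h1
      simpa using this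
    obtain ⟨m, hm'⟩ := hk
    have e : k = (k * k) ^ (m + 1) := by
      rw [← pow_two, ← pow_mul, show 2 * (m + 1) = orderOf k + 1 by omega, pow_succ, pow_orderOf_eq_one, one_mul]
    rw [e]
    exact pow_mem h2 _
  have : g = k * (g⁻¹ * k)⁻¹ := by group
  rw [this]
  exact mul_mem (mem_sup_right hkO) (inv_mem (mem_sup_left hgk))

theorem equiv_psp {F : Type v} [Field F] [Fintype F] (hF : Fintype.card F = 3) : Nonempty (↥U ≃* Cfsg.PSp 2 F) := by
  haveI : Fact (Nat.Prime 3) := ⟨by norm_num⟩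
  obtain ⟨e⟩ := equiv_forty (K := ZMod 3) (ZMod.card 3)
  obtain ⟨-, ⟨ψ⟩⟩ := Cfsg.Lib.Classical.FortyPoints.symplectic (K := ZMod 3) (ZMod.card 3)
  obtain ⟨-, ⟨ψ'⟩⟩ := Cfsg.Lib.Classical.FortyPoints.symplectic (K := F) hF
  exact ⟨(e.trans ψ).trans ψ'.symm⟩

theorem card_psu_six {K : Type w} [Field K] [Fintype K] (hK : Fintype.card K = 4) :
    Nat.card (Cfsg.PSU 6 K 2) = 9196830720 := by
  have h := Cfsg.Agent.S0280.result (F := K) (q := 2) (by rw [hK]; norm_num) 6 (by norm_num)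
  norm_num [Finset.prod_range_succ, Nat.even_iff] at h
  omega

variable {G : Type u} [Group G] [Finite G] {z : G} {J : Subgroup G}

set_option maxHeartbeats 1000000 in
/-- The natural case. -/
theorem of_coord (hL : LinearGoal.{u, v, w}) (c : ECoord z J) (hJ : Cfsg.IsExtraspecial 2 ↥J)
    (hself : ∀ g ∈ centralizer ({z} : Set G), (∀ q ∈ J, g * q = q * g) → g ∈ J)
    {F : Type v} [Field F] [Fintype F] (hF : Fintype.card F = 3) {K : Type w} [Field K] [Fintype K]
    (hK : Fintype.card K = 4) :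
    (∃ G₀ : Subgroup G, G₀.index = 2 ∧ Nonempty (↥G₀ ≃* Cfsg.PSU 6 K 2) ∧ centralizer (G₀ : Set G) = ⊥) ∨
      centralizer ({z} : Set G) ⊔ Cfsg.oddCore G = ⊤ := by
  classical
  haveI : Fact (Nat.Prime 2) := ⟨Nat.prime_two⟩
  obtain ⟨M, hM, hMC⟩ := c.exists_index_two
  have hIM : ∀ h ∈ c.inner, h ∈ M := fun h hh => (hMC ▸ hh : h ∈ M ⊓ _).1
  have hzM : z ∈ M := hIM z (c.le_inner c.mem)
  let zM : ↥M := ⟨z, hzM⟩
  set CM := centralizer ({zM} : Set ↥M) with hCM
  have hCMi : ∀ h : ↥CM, ((h : ↥M) : G) ∈ c.inner := fun h => hMC ▸ Subgroup.mem_inf.2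
    ⟨(h : ↥M).2, mem_centralizer_singleton_iff.2 (congrArg Subtype.val (mem_centralizer_singleton_iff.1 h.2))⟩
  let ψ : ↥CM →* ↥U :=
    { toFun := fun h => ⟨c.π h, (hCMi h).2⟩
      map_one' := Subtype.ext c.π_one
      map_mul' := fun a b => Subtype.ext (c.π_mul _ _ (hCMi a).1 (hCMi b).1) }
  have hback : ∀ g ∈ c.inner, ∃ h : ↥CM, ((h : ↥M) : G) = g := fun g hg =>
    ⟨⟨⟨g, hIM g hg⟩, mem_centralizer_singleton_iff.2 (Subtype.ext hg.1.eq)⟩, rfl⟩
  have hψ : Function.Surjective ψ := fun g => by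
    obtain ⟨k, hk, e⟩ := c.π_surj g.1 g.2
    obtain ⟨h, hh⟩ := hback k ⟨hk, e ▸ g.2⟩
    exact ⟨h, Subtype.ext (by show c.π ((h : ↥M) : G) = _; rw [hh, e])⟩
  have hker : ∀ h, h ∈ ψ.ker ↔ ((h : ↥M) : G) ∈ J := fun h => by
    rw [MonoidHom.mem_ker, Subtype.ext_iff]
    exact c.π_ker _ (hCMi h).1
  let eker : ↥ψ.ker ≃* ↥J :=
    { toFun := fun h => ⟨((h.1 : ↥M) : G), (hker h.1).1 h.2⟩
      invFun := fun q => ⟨⟨⟨q.1, hIM q.1 (c.le_inner q.2)⟩,
        mem_centralizer_singleton_iff.2 (Subtype.ext (c.le q.1 q.2).eq)⟩, (hker _).2 q.2⟩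
      left_inv := fun _ => rfl
      right_inv := fun _ => rfl
      map_mul' := fun _ _ => rfl }
  have hp : IsPGroup 2 ↥ψ.ker := IsPGroup.of_card (n := 9) (by rw [Nat.card_congr eker.toEquiv, c.card])
  have hcore : Cfsg.pCore 2 ↥CM = ψ.ker := by
    refine le_antisymm ?_ (Cfsg.Lib.Components.le_pCore hp)
    have hn : ((Cfsg.pCore 2 ↥CM).map ψ).Normal := Subgroup.Normal.map inferInstance ψ hψ
    haveI := simple_U
    rcases hn.eq_bot_or_eq_top with e | e
    · exact fun h hh => by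
        have : ψ h ∈ (Cfsg.pCore 2 ↥CM).map ψ := ⟨h, hh, rfl⟩
        rwa [e, Subgroup.mem_bot] at this
    · exfalso
      have hp2 := (Cfsg.Lib.Components.isPGroup_pCore (G := ↥CM) 2).map ψ
      rw [e] at hp2
      obtain ⟨n, hn⟩ := IsPGroup.iff_card.1 hp2
      rw [Subgroup.card_top, card_U] at hn
      have : (3 : ℕ) ∣ 2 ^ n := ⟨8640, by rw [← hn]⟩
      have := Nat.prime_three.dvd_of_dvd_pow this
      norm_num at this
  haveI : (Cfsg.pCore 2 ↥CM).Normal := inferInstance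
  obtain ⟨eU⟩ := equiv_psp hF
  have eQ : (↥CM ⧸ Cfsg.pCore 2 ↥CM) ≃* Cfsg.PSp 2 F :=
    ((QuotientGroup.quotientMulEquivOfEq hcore).trans (QuotientGroup.quotientKerEquivOfSurjective ψ hψ)).trans eU
  have hex : Cfsg.IsExtraspecial 2 ↥(Cfsg.pCore 2 ↥CM) :=
    extraspecial_congr (eker.symm.trans (MulEquiv.subgroupCongr hcore.symm)) hJ
  have hcard : Nat.card ↥(Cfsg.pCore 2 ↥CM) = 2 ^ 9 := by rw [hcore, Nat.card_congr eker.toEquiv, c.card]
  have hCJ : centralizer ((Cfsg.pCore 2 ↥CM) : Set ↥CM) ≤ Cfsg.pCore 2 ↥CM := by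
    rw [hcore]
    intro h hh
    rw [hker]
    refine hself _ (mem_centralizer_singleton_iff.2 (hCMi h).1.eq) fun q hq => ?_
    obtain ⟨k, hk⟩ := hback q (c.le_inner hq)
    have := Subgroup.mem_centralizer_iff.1 hh k ((hker k).2 (hk ▸ hq))
    have := congrArg (fun x : ↥CM => ((x : ↥M) : G)) this
    simp only [Subgroup.coe_mul, hk] at this
    exact this.symm
  have hord : orderOf zM = 2 := by rw [← orderOf_injective M.subtype M.subtype_injective]; exact c.order
  haveI hMn : M.Normal := Subgroup.normal_of_index_eq_two hM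
  rcases hL zM hord hF hK hex hcard hCJ eQ with ⟨⟨e⟩⟩ | hsup
  · refine Or.inl ⟨M, hM, ⟨e⟩, eq_bot_iff.2 fun y hy => Subgroup.mem_bot.2 ?_⟩
    have hyz : Commute y z := (Subgroup.mem_centralizer_iff.1 hy z hzM).symm
    have hyJ : y ∈ J := hself y (mem_centralizer_singleton_iff.2 hyz.eq) fun q hq =>
      (Subgroup.mem_centralizer_iff.1 hy q (hIM q (c.le_inner hq))).symm
    have hy0 : c.β y = 0 := by
      by_contra h0
      obtain ⟨i, hi⟩ := functional_ne (c.β y).code h0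
      obtain ⟨q, hq, hqv⟩ := c.β_surj ⟨i⟩
      have := (c.commute_iff hyJ hq).1 (Subgroup.mem_centralizer_iff.1 hy q (hIM q (c.le_inner hq))).symm
      rw [hqv] at this
      exact Bool.false_ne_true (this.symm.trans hi)
    rcases (c.β_ker y hyJ).1 hy0 with h | h
    · exact h
    · exfalso
      subst h
      have hMI : M = c.inner := by
        rw [← hMC]
        exact (inf_of_le_left fun g hg => mem_centralizer_singleton_iff.2
          (Subgroup.mem_centralizer_iff.1 hy g hg)).symm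
      have h1 : Nat.card ↥M = 9196830720 := by rw [Nat.card_congr e.toEquiv, card_psu_six hK]
      have h2 := c.card_split (K := c.inner) fun g hg => hg.1
      have h3 : (c.π '' (c.inner : Set G)).ncard = 25920 := by
        rw [← card_U, ← Nat.card_coe_set_eq]
        congr 1
        refine congrArg (fun s : Set (Equiv.Perm Vt) => ↥s) (Set.ext fun g => ⟨?_, fun hg => ?_⟩)
        · rintro ⟨k, hk, rfl⟩
          exact hk.2
        · obtain ⟨k, hk, e⟩ := c.π_surj g hg
          exact ⟨k, ⟨hk, e ▸ hg⟩, e⟩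
      rw [inf_of_le_right c.le_inner, c.card, h3, ← hMI, h1] at h2
      norm_num at h2
  · refine Or.inr ?_
    have hcomap : CM.map M.subtype ≤ centralizer ({z} : Set G) := by
      rintro _ ⟨h, hh, rfl⟩
      exact mem_centralizer_singleton_iff.2 (congrArg Subtype.val (mem_centralizer_singleton_iff.1 hh))
    have hodd : (Cfsg.oddCore ↥M).map M.subtype ≤ Cfsg.oddCore G := by
      refine le_sSup ⟨?_, ?_⟩
      · haveI : (Cfsg.oddCore ↥M).Characteristic := Cfsg.Lib.Components.pPrimeCore_characteristic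
        exact ConjAct.normal_of_characteristic_of_normal
      · rw [Subgroup.card_map_of_injective M.subtype_injective]
        exact Cfsg.Lib.Components.coprime_card_pPrimeCore (G := ↥M) 2
    have hle : M ≤ centralizer ({z} : Set G) ⊔ Cfsg.oddCore G := by
      intro g hg
      have := Subgroup.mem_map_of_mem M.subtype (hsup ▸ Subgroup.mem_top (⟨g, hg⟩ : ↥M))
      rw [Subgroup.map_sup] at this
      exact sup_le_sup hcomap hodd this
    obtain ⟨t, ht, htU, -⟩ := c.exists_t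
    have htM : t ∉ M := fun e => htU (hMC ▸ Subgroup.mem_inf.2 ⟨e, mem_centralizer_singleton_iff.2 ht.eq⟩ : t ∈ c.inner).2
    refine eq_top_iff.2 fun g _ => ?_
    by_cases hg : g ∈ M
    · exact hle hg
    · have : t * g ∈ M := by
        rw [Subgroup.mul_mem_iff_of_index_two hM]
        exact iff_of_false htM hg
      rw [show g = t⁻¹ * (t * g) by group]
      exact mul_mem (inv_mem (mem_sup_left (mem_centralizer_singleton_iff.2 ht.eq))) (hle this)

set_option maxHeartbeats 1000000 in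
/-- The recognition from the linear one. -/
theorem main (hL : LinearGoal.{u, v, w}) (hfix : FixedGoal.{u, v}) (hz : orderOf z = 2)
    {F : Type v} [Field F] [Fintype F] (hF : Fintype.card F = 3) {K : Type w} [Field K] [Fintype K] (hK : Fintype.card K = 4)
    (hJ : Cfsg.IsExtraspecial 2 ↥(Cfsg.pCore 2 ↥(centralizer ({z} : Set G))))
    (hJc : Nat.card ↥(Cfsg.pCore 2 ↥(centralizer ({z} : Set G))) = 2 ^ 9)
    (hCJ : centralizer ((Cfsg.pCore 2 ↥(centralizer ({z} : Set G))) : Set ↥(centralizer ({z} : Set G))) ≤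
      Cfsg.pCore 2 ↥(centralizer ({z} : Set G)))
    [(Cfsg.pCore 2 ↥(centralizer ({z} : Set G))).Normal]
    (e : (↥(centralizer ({z} : Set G)) ⧸ Cfsg.pCore 2 ↥(centralizer ({z} : Set G))) ≃* MulAut (Cfsg.PSp 2 F)) :
    (∃ G₀ : Subgroup G, G₀.index = 2 ∧ Nonempty (↥G₀ ≃* Cfsg.PSU 6 K 2) ∧ centralizer (G₀ : Set G) = ⊥) ∨
      centralizer ({z} : Set G) ⊔ Cfsg.oddCore G = ⊤ := by
  classical
  haveI : Fact (Nat.Prime 2) := ⟨Nat.prime_two⟩
  set C := centralizer ({z} : Set G)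
  set O := Cfsg.pCore 2 ↥C
  obtain ⟨eU⟩ := equiv_psp hF
  have hzC : z ∈ C := mem_centralizer_singleton_iff.2 rfl
  have hzO : (⟨z, hzC⟩ : ↥C) ∈ O := by
    have hn : (zpowers (⟨z, hzC⟩ : ↥C)).Normal := ⟨fun x hx h => by
      obtain ⟨n, rfl⟩ := hx
      refine ⟨n, ?_⟩
      show (⟨z, hzC⟩ : ↥C) ^ n = h * ⟨z, hzC⟩ ^ n * h⁻¹
      rw [((show Commute h (⟨z, hzC⟩ : ↥C) from Subtype.ext (mem_centralizer_singleton_iff.1 h.2)).zpow_right n).eq,
        mul_inv_cancel_right]⟩
    refine Cfsg.Lib.Components.le_pCore (IsPGroup.of_card (n := 1) ?_) (mem_zpowers _)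
    rw [Nat.card_zpowers, ← orderOf_injective C.subtype C.subtype_injective]
    exact hz.trans (pow_one 2).symm
  let eJ : ↥O ≃* ↥(O.map C.subtype) := O.equivMapOfInjective _ C.subtype_injective
  let S : OuterSetting z (O.map C.subtype) (Cfsg.PSp 2 F) :=
    { order := hz
      le := Subgroup.map_subtype_le O
      norm := fun h hh => mem_normalizer_iff.2 fun q => by
        constructor
        · rintro ⟨p, hp, rfl⟩
          exact ⟨⟨h, hh⟩ * p * ⟨h, hh⟩⁻¹, Subgroup.Normal.conj_mem inferInstance p hp ⟨h, hh⟩, rfl⟩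
        · rintro ⟨p, hp, hpq⟩
          refine ⟨(⟨h, hh⟩ : ↥C)⁻¹ * p * ⟨h, hh⟩, ?_, ?_⟩
          · have := Subgroup.Normal.conj_mem inferInstance p hp (⟨h, hh⟩ : ↥C)⁻¹
            rwa [inv_inv] at this
          · show h⁻¹ * (p : G) * h = q
            rw [show (p : G) = h * q * h⁻¹ from hpq]
            group
      extra := extraspecial_congr eJ hJ
      card := by rw [← Nat.card_congr eJ.toEquiv]; exact hJc
      mem := ⟨⟨z, hzC⟩, hzO, rfl⟩
      self := fun g hg hq => ⟨⟨g, hg⟩, hCJ (Subgroup.mem_centralizer_iff.2 fun p hp =>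
        Subtype.ext (hq _ ⟨p, hp, rfl⟩).symm), rfl⟩
      iso := ⟨eU⟩
      autCard := by
        haveI : Fact (Nat.Prime 3) := ⟨Nat.prime_three⟩
        rw [Cfsg.Agent.S0814.result 3 1 le_rfl (by rw [hF, pow_one]) 2 le_rfl (fun _ => le_rfl),
          ← Nat.card_congr eU.toEquiv, card_U]
        norm_num
      f := e.toMonoidHom.comp (QuotientGroup.mk' O)
      surj := e.surjective.comp (QuotientGroup.mk'_surjective O)
      ker := fun h => by
        show e (QuotientGroup.mk h) = 1 ↔ _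
        rw [MulEquiv.map_eq_one_iff, QuotientGroup.eq_one_iff]
        exact ⟨fun hh => ⟨h, hh, rfl⟩, fun ⟨p, hp, hpq⟩ => (Subtype.ext hpq : p = h) ▸ hp⟩ }
  by_cases hn : S.NoFix
  · obtain ⟨c⟩ := exists_ecoord S hn
    exact of_coord hL c S.extra S.self hF hK
  · exact Or.inr (sup_oddCore ⟨hz, fun g hc => hfix S hn g hc.symm⟩)

end Cfsg.Lib.USixType.Ext
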