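import Cfsg.Agent.USixType.Ext.Semi

/-!
# Coordinates on a centraliser with semilinear elements
-/

set_option autoImplicit false
set_option Elab.async false

namespace Cfsg.Lib.USixType.Ext

open Subgroup

universe u

variable {G : Type u} [Group G]

/-- Coordinates: the core as a double cover of the vectors, the centraliser acting through semilinear isometries. -/
structure ECoord (z : G) (J : Subgroup G) where
  /-- The vector of an element of the core. -/
  β : G → Vt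
  /-- The map of an element of the centraliser. -/
  π : G → Equiv.Perm Vt
  order : orderOf z = 2
  le : ∀ q ∈ J, Commute q z
  norm : ∀ h, Commute h z → ∀ q ∈ J, h * q * h⁻¹ ∈ J
  mem : z ∈ J
  card : Nat.card ↥J = 2 ^ 9
  β_mul : ∀ p ∈ J, ∀ q ∈ J, β (p * q) = β p + β q
  β_surj : ∀ v, ∃ q ∈ J, β q = v
  β_ker : ∀ q ∈ J, β q = 0 ↔ q = 1 ∨ q = z
  sq : ∀ q ∈ J, q * q = zp z (Q (β q))
  comm : ∀ p ∈ J, ∀ q ∈ J, p * q * p⁻¹ * q⁻¹ = zp z (B (β p) (β q))
  π_mem : ∀ h, Commute h z → π h ∈ U ∨ Semi (π h)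
  π_semi : ∀ h k, Commute h z → Commute k z → π h ∉ U → π k ∉ U → π (h * k) ∈ U
  π_mul : ∀ h k, Commute h z → Commute k z → π (h * k) = π h * π k
  π_ker : ∀ h, Commute h z → (π h = 1 ↔ h ∈ J)
  π_surj : ∀ g ∈ U, ∃ h, Commute h z ∧ π h = g
  outer : ∃ h, Commute h z ∧ Semi (π h) ∧ π h * π h = 1 ∧ ∀ r, π h r = r → Cfsg.Lib.USixType.h r r = 0
  equiv : ∀ h, Commute h z → ∀ q ∈ J, β (h * q * h⁻¹) = π h (β q)

namespace ECoord

variable {z : G} {J : Subgroup G} (c : ECoord z J)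
include c

theorem z_sq : z * z = 1 := by rw [← pow_two, ← c.order, pow_orderOf_eq_one]

theorem z_ne_one : z ≠ 1 := fun e => by
  have := c.order; rw [e, orderOf_one] at this; exact absurd this (by norm_num)

theorem z_inv : z⁻¹ = z := inv_eq_of_mul_eq_one_left c.z_sq

theorem zp_mul (a b : Bool) : zp z a * zp z b = zp z (a.xor b) := by
  cases a <;> cases b <;> simp [zp, c.z_sq]

theorem zp_inj {a b : Bool} (e : zp z a = zp z b) : a = b := by
  cases a <;> cases b <;> simp_all [zp, c.z_ne_one, c.z_ne_one.symm]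

theorem zp_mem (b : Bool) : zp z b ∈ J := by cases b <;> simp [zp, c.mem, one_mem]

theorem β_one : c.β 1 = 0 := (c.β_ker 1 (one_mem J)).2 (Or.inl rfl)

theorem β_z : c.β z = 0 := (c.β_ker z c.mem).2 (Or.inr rfl)

theorem β_zp (b : Bool) : c.β (zp z b) = 0 := by cases b <;> simp [zp, c.β_one, c.β_z]

theorem β_inv {q : G} (hq : q ∈ J) : c.β q⁻¹ = c.β q := by
  have := c.β_mul q hq q⁻¹ (inv_mem hq)
  rw [mul_inv_cancel, c.β_one] at this
  exact (eq_neg_of_add_eq_zero_right this.symm).trans (Vt.neg_eq _)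

theorem β_mul_zp {q : G} (hq : q ∈ J) (b : Bool) : c.β (q * zp z b) = c.β q := by
  rw [c.β_mul q hq _ (c.zp_mem b), c.β_zp, add_zero]

theorem eq_or_mul_z {p q : G} (hp : p ∈ J) (hq : q ∈ J) (e : c.β p = c.β q) : ∃ b, q = p * zp z b := by
  have h0 : c.β (p⁻¹ * q) = 0 := by rw [c.β_mul _ (inv_mem hp) q hq, c.β_inv hp, e, Vt.add_self]
  rcases (c.β_ker _ (mul_mem (inv_mem hp) hq)).1 h0 with h | h
  · exact ⟨false, by rw [zp, if_neg Bool.false_ne_true, mul_one]; exact (inv_mul_eq_one.1 h).symm⟩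
  · exact ⟨true, by rw [zp, if_pos rfl, ← h, mul_inv_cancel_left]⟩

theorem swap {p q : G} (hp : p ∈ J) (hq : q ∈ J) : p * q = q * p * zp z (B (c.β p) (c.β q)) := by
  have e := c.comm p hp q hq
  rw [(Coord.zp_comm (c.le _ (mul_mem hq hp)) _).eq, ← e]
  group

theorem commute_iff {p q : G} (hp : p ∈ J) (hq : q ∈ J) : Commute p q ↔ B (c.β p) (c.β q) = false := by
  have e := c.comm p hp q hq
  constructor
  · intro h
    apply c.zp_inj
    rw [← e, h.eq]
    simp [zp]
  · intro h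
    show p * q = q * p
    rw [c.swap hp hq, h]
    simp [zp]

theorem π_one : c.π 1 = 1 := (c.π_ker 1 (Commute.one_left z)).2 (one_mem J)

theorem π_inv {h : G} (hh : Commute h z) : c.π h⁻¹ = (c.π h)⁻¹ := by
  have := c.π_mul h⁻¹ h hh.inv_left hh
  rw [inv_mul_cancel, c.π_one] at this
  exact eq_inv_of_mul_eq_one_left this.symm

theorem π_of_mem {q : G} (hq : q ∈ J) : c.π q = 1 := (c.π_ker q (c.le q hq)).2 hq

theorem semi_of_notin {h : G} (hh : Commute h z) (hn : c.π h ∉ U) : Semi (c.π h) := (c.π_mem h hh).resolve_left hn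

theorem π_add {h : G} (hh : Commute h z) (u v : Vt) : c.π h (u + v) = c.π h u + c.π h v :=
  (c.π_mem h hh).elim (fun e => (lin_of_mem e).map_add u v) fun e => e.map_add u v

/-- The elements acting linearly. -/
def inner : Subgroup G where
  carrier := {h | Commute h z ∧ c.π h ∈ U}
  one_mem' := ⟨Commute.one_left z, by rw [c.π_one]; exact one_mem U⟩
  mul_mem' := fun {a b} ha hb => ⟨ha.1.mul_left hb.1, by rw [c.π_mul a b ha.1 hb.1]; exact mul_mem ha.2 hb.2⟩
  inv_mem' := fun {a} ha => ⟨ha.1.inv_left, by rw [c.π_inv ha.1]; exact inv_mem ha.2⟩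

theorem mem_inner {h : G} : h ∈ c.inner ↔ Commute h z ∧ c.π h ∈ U := Iff.rfl

theorem le_inner : J ≤ c.inner := fun q hq => ⟨c.le q hq, by rw [c.π_of_mem hq]; exact one_mem U⟩

theorem sq_inner {h : G} (hh : Commute h z) : h * h ∈ c.inner := by
  by_cases hn : c.π h ∈ U
  · exact mul_mem (show h ∈ c.inner from ⟨hh, hn⟩) ⟨hh, hn⟩
  · exact ⟨hh.mul_left hh, c.π_semi h h hh hh hn hn⟩

theorem mem_conj {g q : G} : q ∈ J.map (MulAut.conj g).toMonoidHom ↔ g⁻¹ * q * g ∈ J := by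
  constructor
  · rintro ⟨p, hp, rfl⟩
    show g⁻¹ * (g * p * g⁻¹) * g ∈ J
    rwa [show g⁻¹ * (g * p * g⁻¹) * g = p by group]
  · intro hq
    exact ⟨g⁻¹ * q * g, hq, by show g * (g⁻¹ * q * g) * g⁻¹ = q; group⟩

/-- The coordinates at a conjugate. -/
def map (g : G) : ECoord (g * z * g⁻¹) (J.map (MulAut.conj g).toMonoidHom) where
  β q := c.β (g⁻¹ * q * g)
  π h := c.π (g⁻¹ * h * g)
  order := by
    rw [← c.order]
    exact orderOf_injective (MulAut.conj g).toMonoidHom (MulAut.conj g).injective z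
  le q hq := by
    have h := c.le _ (c.mem_conj.1 hq)
    show q * (g * z * g⁻¹) = g * z * g⁻¹ * q
    calc q * (g * z * g⁻¹) = g * ((g⁻¹ * q * g) * z) * g⁻¹ := by group
      _ = g * (z * (g⁻¹ * q * g)) * g⁻¹ := by rw [h.eq]
      _ = _ := by group
  norm h hh q hq := c.mem_conj.2 (by
    rw [show g⁻¹ * (h * q * h⁻¹) * g = (g⁻¹ * h * g) * (g⁻¹ * q * g) * (g⁻¹ * h * g)⁻¹ by group]
    exact c.norm _ (Coord.map_commute g hh) _ (c.mem_conj.1 hq))
  mem := ⟨z, c.mem, rfl⟩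
  card := by rw [Subgroup.card_map_of_injective (MulAut.conj g).injective]; exact c.card
  β_mul p hp q hq := by
    rw [show g⁻¹ * (p * q) * g = (g⁻¹ * p * g) * (g⁻¹ * q * g) by group]
    exact c.β_mul _ (c.mem_conj.1 hp) _ (c.mem_conj.1 hq)
  β_surj v := by
    obtain ⟨q, hq, e⟩ := c.β_surj v
    exact ⟨g * q * g⁻¹, ⟨q, hq, rfl⟩, by rw [show g⁻¹ * (g * q * g⁻¹) * g = q by group, e]⟩
  β_ker q hq := by
    rw [c.β_ker _ (c.mem_conj.1 hq)]
    refine or_congr ⟨fun e => ?_, fun e => by rw [e]; group⟩ ⟨fun e => ?_, fun e => by rw [e]; group⟩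
    · rw [show q = g * (g⁻¹ * q * g) * g⁻¹ by group, e]; group
    · rw [show q = g * (g⁻¹ * q * g) * g⁻¹ by group, e]
  sq q hq := by
    rw [show q * q = g * ((g⁻¹ * q * g) * (g⁻¹ * q * g)) * g⁻¹ by group, c.sq _ (c.mem_conj.1 hq)]
    cases Q (c.β (g⁻¹ * q * g)) <;> simp [zp]
  comm p hp q hq := by
    rw [show p * q * p⁻¹ * q⁻¹ = g * ((g⁻¹ * p * g) * (g⁻¹ * q * g) * (g⁻¹ * p * g)⁻¹ * (g⁻¹ * q * g)⁻¹) * g⁻¹ by group,
      c.comm _ (c.mem_conj.1 hp) _ (c.mem_conj.1 hq)]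
    cases B (c.β (g⁻¹ * p * g)) (c.β (g⁻¹ * q * g)) <;> simp [zp]
  π_mem h hh := c.π_mem _ (Coord.map_commute g hh)
  π_semi h k hh hk e e' := by
    rw [show g⁻¹ * (h * k) * g = (g⁻¹ * h * g) * (g⁻¹ * k * g) by group]
    exact c.π_semi _ _ (Coord.map_commute g hh) (Coord.map_commute g hk) e e'
  π_mul h k hh hk := by
    rw [show g⁻¹ * (h * k) * g = (g⁻¹ * h * g) * (g⁻¹ * k * g) by group]
    exact c.π_mul _ _ (Coord.map_commute g hh) (Coord.map_commute g hk)
  π_ker h hh := (c.π_ker _ (Coord.map_commute g hh)).trans c.mem_conj.symm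
  π_surj u hu := by
    obtain ⟨h, hh, e⟩ := c.π_surj u hu
    refine ⟨g * h * g⁻¹, ?_, by rw [show g⁻¹ * (g * h * g⁻¹) * g = h by group, e]⟩
    show g * h * g⁻¹ * (g * z * g⁻¹) = g * z * g⁻¹ * (g * h * g⁻¹)
    calc _ = g * (h * z) * g⁻¹ := by group
      _ = g * (z * h) * g⁻¹ := by rw [hh.eq]
      _ = _ := by group
  outer := by
    obtain ⟨h, hh, e⟩ := c.outer
    refine ⟨g * h * g⁻¹, ?_, by rw [show g⁻¹ * (g * h * g⁻¹) * g = h by group]; exact e⟩
    show g * h * g⁻¹ * (g * z * g⁻¹) = g * z * g⁻¹ * (g * h * g⁻¹)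
    calc _ = g * (h * z) * g⁻¹ := by group
      _ = g * (z * h) * g⁻¹ := by rw [hh.eq]
      _ = _ := by group
  equiv h hh q hq := by
    rw [show g⁻¹ * (h * q * h⁻¹) * g = (g⁻¹ * h * g) * (g⁻¹ * q * g) * (g⁻¹ * h * g)⁻¹ by group]
    exact c.equiv _ (Coord.map_commute g hh) _ (c.mem_conj.1 hq)

/-- The coordinates after an element of the unitary group. -/
def twist (u : Equiv.Perm Vt) (hu : u ∈ U) : ECoord z J where
  β q := u (c.β q)
  π h := u * c.π h * u⁻¹
  order := c.order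
  le := c.le
  norm := c.norm
  mem := c.mem
  card := c.card
  β_mul p hp q hq := by rw [c.β_mul p hp q hq, (lin_of_mem hu).map_add]
  β_surj v := by
    obtain ⟨q, hq, e⟩ := c.β_surj (u⁻¹ v)
    exact ⟨q, hq, by rw [e]; exact u.apply_symm_apply v⟩
  β_ker q hq := by
    rw [← c.β_ker q hq]
    exact ⟨fun e => u.injective (e.trans (lin_of_mem hu).map_zero.symm), fun e => by rw [e, (lin_of_mem hu).map_zero]⟩
  sq q hq := by
    rw [c.sq q hq, Q, Q, (lin_of_mem hu).map_h]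
  comm p hp q hq := by
    rw [c.comm p hp q hq, B, B, (lin_of_mem hu).map_h]
  π_mem h hh := (c.π_mem h hh).imp (fun e => mul_mem (mul_mem hu e) (inv_mem hu)) fun e =>
    (e.lin_mul (lin_of_mem hu)).mul_lin (lin_of_mem (inv_mem hu))
  π_semi h k hh hk e e' := by
    have key : ∀ p, u * p * u⁻¹ ∉ U → p ∉ U := fun p hp hp' => hp (mul_mem (mul_mem hu hp') (inv_mem hu))
    exact mul_mem (mul_mem hu (c.π_semi h k hh hk (key _ e) (key _ e'))) (inv_mem hu)
  π_mul h k hh hk := by rw [c.π_mul h k hh hk]; group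
  π_ker h hh := by rw [← c.π_ker h hh, conj_eq_one_iff]
  π_surj g hg := by
    obtain ⟨h, hh, e⟩ := c.π_surj (u⁻¹ * g * u) (mul_mem (mul_mem (inv_mem hu) hg) hu)
    exact ⟨h, hh, by rw [e]; group⟩
  outer := by
    obtain ⟨k, hk, k1, k2, k3⟩ := c.outer
    refine ⟨k, hk, (k1.lin_mul (lin_of_mem hu)).mul_lin (lin_of_mem (inv_mem hu)), ?_, fun r hr => ?_⟩
    · rw [show u * c.π k * u⁻¹ * (u * c.π k * u⁻¹) = u * (c.π k * c.π k) * u⁻¹ by group, k2]
      group
    · have e : c.π k (u⁻¹ r) = u⁻¹ r := u.injective (hr.trans (u.apply_symm_apply r).symm)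
      have := k3 _ e
      rwa [(lin_of_mem (inv_mem hu)).map_h] at this
  equiv h hh q hq := by
    rw [c.equiv h hh q hq]
    simp only [Equiv.Perm.mul_apply, Equiv.Perm.coe_inv, Equiv.symm_apply_apply]

theorem twist_β (u : Equiv.Perm Vt) (hu : u ∈ U) (q : G) : (c.twist u hu).β q = u (c.β q) := rfl

/-- A subgroup of the core containing the centre is twice as large as its set of vectors. -/
theorem card_pre [Finite G] {K : Subgroup G} (hK : K ≤ J) (hz : z ∈ K) :
    Nat.card ↥K = 2 * (c.β '' (K : Set G)).ncard := by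
  classical
  let f : ↥K →* Multiplicative Vt :=
    { toFun := fun q => Multiplicative.ofAdd (c.β q)
      map_one' := congrArg Multiplicative.ofAdd c.β_one
      map_mul' := fun p q => congrArg Multiplicative.ofAdd (c.β_mul p (hK p.2) q (hK q.2)) }
  have hker : f.ker = zpowers (⟨z, hz⟩ : ↥K) := by
    refine le_antisymm (fun q hq => ?_) (zpowers_le.2 (congrArg Multiplicative.ofAdd c.β_z))
    rcases (c.β_ker q (hK q.2)).1 hq with e | e
    · rw [show q = 1 from Subtype.ext e]; exact one_mem _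
    · rw [show q = ⟨z, hz⟩ from Subtype.ext e]; exact mem_zpowers _
  have h := Subgroup.card_eq_card_quotient_mul_card_subgroup f.ker
  rw [Nat.card_congr (QuotientGroup.quotientKerEquivRange f).toEquiv] at h
  have hr : Nat.card f.range = (c.β '' (K : Set G)).ncard := by
    rw [← Nat.card_coe_set_eq]
    refine Nat.card_congr ⟨fun v => ⟨Multiplicative.toAdd v.1, ?_⟩, fun v => ⟨Multiplicative.ofAdd v.1, ?_⟩,
      fun _ => rfl, fun _ => rfl⟩
    · obtain ⟨q, hq⟩ := v.2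
      exact ⟨q, q.2, congrArg Multiplicative.toAdd hq⟩
    · obtain ⟨q, hq, e⟩ := v.2
      exact ⟨⟨q, hq⟩, congrArg Multiplicative.ofAdd e⟩
  have hz2 : Nat.card f.ker = 2 := by
    rw [hker, Nat.card_zpowers, ← orderOf_injective K.subtype K.subtype_injective]
    exact c.order
  rw [h, hr, hz2, mul_comm]

/-- The order of a subgroup of the centraliser through the kernel and the image. -/
theorem card_split [Finite G] {K : Subgroup G} (hK : ∀ h ∈ K, Commute h z) :
    Nat.card ↥K = Nat.card ↥(K ⊓ J) * (c.π '' (K : Set G)).ncard := by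
  let f : ↥K →* Equiv.Perm Vt :=
    { toFun := fun h => c.π h
      map_one' := c.π_one
      map_mul' := fun p q => c.π_mul p q (hK p p.2) (hK q q.2) }
  have h := Subgroup.card_eq_card_quotient_mul_card_subgroup f.ker
  rw [Nat.card_congr (QuotientGroup.quotientKerEquivRange f).toEquiv] at h
  have hr : Nat.card f.range = (c.π '' (K : Set G)).ncard := by
    rw [← Nat.card_coe_set_eq]
    refine Nat.card_congr (Equiv.subtypeEquivRight fun v => ?_)
    exact ⟨fun ⟨q, e⟩ => ⟨q, q.2, e⟩, fun ⟨q, hq, e⟩ => ⟨⟨q, hq⟩, e⟩⟩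
  have hk : Nat.card f.ker = Nat.card ↥(K ⊓ J) := Nat.card_congr
    { toFun := fun q => ⟨q.1.1, q.1.2, (c.π_ker _ (hK _ q.1.2)).1 q.2⟩
      invFun := fun q => ⟨⟨q.1, q.2.1⟩, (c.π_ker _ (hK _ q.2.1)).2 q.2.2⟩
      left_inv := fun _ => rfl
      right_inv := fun _ => rfl }
  rw [h, hr, hk, mul_comm]

/-- A subgroup meets the linear elements in at least half. -/
theorem card_le_two_inner [Finite G] {K : Subgroup G} (hK : ∀ h ∈ K, Commute h z) :
    Nat.card ↥K ≤ 2 * Nat.card ↥(K ⊓ c.inner) := by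
  classical
  by_cases hsub : K ≤ c.inner
  · rw [inf_of_le_left hsub]; omega
  obtain ⟨a, ha, ha'⟩ := SetLike.not_le_iff_exists.1 hsub
  let f : Bool × ↥(K ⊓ c.inner) → ↥K := fun p => if p.1 then ⟨a * p.2.1, mul_mem ha p.2.2.1⟩ else ⟨p.2.1, p.2.2.1⟩
  have hf : Function.Surjective f := fun k => by
    by_cases hk : (k : G) ∈ c.inner
    · exact ⟨(false, ⟨k, k.2, hk⟩), rfl⟩
    · refine ⟨(true, ⟨a⁻¹ * k, Subgroup.mem_inf.2 ⟨K.mul_mem (K.inv_mem ha) k.2, c.mem_inner.2
        ⟨(hK a ha).inv_left.mul_left (hK k k.2), ?_⟩⟩⟩),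
        Subtype.ext (mul_inv_cancel_left a k)⟩
      refine c.π_semi _ _ (hK a ha).inv_left (hK k k.2) (fun e => ?_) (fun e => hk ⟨hK k k.2, e⟩)
      refine ha' ⟨hK a ha, ?_⟩
      rw [← inv_inv a, c.π_inv (hK a ha).inv_left]
      exact inv_mem e
  have := Nat.card_le_card_of_surjective f hf
  rwa [Nat.card_prod, show Nat.card Bool = 2 by simp] at this

/-- The image of a subgroup divides twice the order of the unitary group. -/
theorem image_dvd [Finite G] {K : Subgroup G} (hK : ∀ h ∈ K, Commute h z) :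
    (c.π '' (K : Set G)).ncard ∣ 2 * 25920 := by
  classical
  obtain ⟨a, ha, hs, -, -⟩ := c.outer
  have haU : c.π a ∉ U := fun e => not_lin_semi (lin_of_mem e) hs
  let T : Subgroup (Equiv.Perm Vt) :=
    { carrier := {p | ∃ h, Commute h z ∧ c.π h = p}
      one_mem' := ⟨1, Commute.one_left z, c.π_one⟩
      mul_mem' := by
        rintro _ _ ⟨p, hp, rfl⟩ ⟨q, hq, rfl⟩
        exact ⟨p * q, hp.mul_left hq, c.π_mul p q hp hq⟩
      inv_mem' := by
        rintro _ ⟨p, hp, rfl⟩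
        exact ⟨p⁻¹, hp.inv_left, c.π_inv hp⟩ }
  have hUT : U ≤ T := fun g hg => c.π_surj g hg
  have hT : Nat.card ↥T = 2 * 25920 := by
    have hidx : (U.subgroupOf T).index = 2 := Subgroup.index_eq_two_iff.2 ⟨⟨c.π a, a, ha, rfl⟩, by
      rintro ⟨_, k, hk, rfl⟩
      simp only [Subgroup.mem_subgroupOf, Subgroup.coe_mul]
      by_cases hku : c.π k ∈ U
      · exact Or.inr ⟨hku, fun e => haU (by
          have := mul_mem (inv_mem hku) e
          rwa [inv_mul_cancel_left] at this)⟩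
      · exact Or.inl ⟨by rw [← c.π_mul k a hk ha]; exact c.π_semi k a hk ha hku haU, hku⟩⟩
    have := Subgroup.card_mul_index (U.subgroupOf T)
    rw [hidx, Nat.card_congr (Subgroup.subgroupOfEquivOfLe hUT).toEquiv, card_U] at this
    omega
  let f : ↥K →* ↥T :=
    { toFun := fun h => ⟨c.π h, h, hK h h.2, rfl⟩
      map_one' := Subtype.ext c.π_one
      map_mul' := fun p q => Subtype.ext (c.π_mul p q (hK p p.2) (hK q q.2)) }
  rw [← hT, show (c.π '' (K : Set G)).ncard = Nat.card f.range from ?_]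
  · exact Subgroup.card_subgroup_dvd_card _
  · rw [← Nat.card_coe_set_eq]
    refine Nat.card_congr (Equiv.ofBijective (fun v => ⟨⟨v.1, ?_⟩, ?_⟩) ⟨fun a b e => ?_, fun b => ?_⟩)
    · obtain ⟨q, hq, e⟩ := v.2
      exact ⟨q, hK q hq, e⟩
    · obtain ⟨q, hq, e⟩ := v.2
      exact ⟨⟨q, hq⟩, Subtype.ext e⟩
    · exact Subtype.ext (congrArg (fun x => (x.1.1 : Equiv.Perm Vt)) e)
    · obtain ⟨q, hq⟩ := b.2
      exact ⟨⟨b.1.1, q.1, q.2, congrArg Subtype.val hq⟩, Subtype.ext (Subtype.ext rfl)⟩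

end ECoord

end Cfsg.Lib.USixType.Ext
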