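import Cfsg.Agent.USixType.Ext.Coord

/-!
# Semilinear coordinates exist
-/

set_option autoImplicit false
set_option Elab.async false
set_option maxRecDepth 100000
set_option linter.style.haveILetI false

namespace Cfsg.Lib.USixType.Ext

open Subgroup

universe u v

variable {G : Type u} [Group G] [Finite G] {z : G} {J : Subgroup G}

theorem extraspecial_congr {A B : Type*} [Group A] [Group B] (f : A ≃* B) (h : Cfsg.IsExtraspecial 2 A) :
    Cfsg.IsExtraspecial 2 B := by
  obtain ⟨⟨hp, hf, hd⟩, hc⟩ := h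
  have hcen : (center A).map f.toMonoidHom = center B := by
    ext x
    obtain ⟨a, rfl⟩ := f.surjective x
    rw [show (f a ∈ (center A).map f.toMonoidHom) ↔ a ∈ center A from
      Subgroup.mem_map_iff_mem (f := f.toMonoidHom) f.injective, mem_center_iff, mem_center_iff]
    refine ⟨fun h y => ?_, fun h y => f.injective ?_⟩
    · obtain ⟨b, rfl⟩ := f.surjective y
      rw [← map_mul, ← map_mul, h b]
    · rw [map_mul, map_mul, h (f y)]
  have hder : (_root_.commutator A).map f.toMonoidHom = _root_.commutator B := by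
    rw [commutator_def, commutator_def, Subgroup.map_commutator, Subgroup.map_top_of_surjective f.toMonoidHom f.surjective]
  have hfr : (frattini A).map f.toMonoidHom = frattini B := by
    refine le_antisymm (Subgroup.map_le_iff_le_comap.2 (frattini_le_comap_frattini_of_surjective f.surjective)) ?_
    have h := frattini_le_comap_frattini_of_surjective (φ := f.symm.toMonoidHom) f.symm.surjective
    intro x hx
    exact ⟨f.symm x, h hx, f.apply_symm_apply x⟩
  refine ⟨⟨hp.of_equiv f, by rw [← hfr, hf, hcen], by rw [← hder, hd, hcen]⟩, ?_⟩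
  rw [← hcen, ← hc]
  exact (Nat.card_congr (f.subgroupMap (center A)).toEquiv).symm

/-- The scalar map. -/
def smP (l : Fin 4) (hl : l ≠ 0) : Equiv.Perm Vt where
  toFun := sm l.val
  invFun v := sigF (sm l.val (sigF v))
  left_inv v := (smSig_facts l hl v.code).1
  right_inv v := sig.injective (smSig_facts l hl (sigF v).code).1

/-- The hypotheses: an extraspecial core with the automorphism group of the unitary group above it. -/
structure OuterSetting (z : G) (J : Subgroup G) (P : Type v) [Group P] where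
  order : orderOf z = 2
  le : J ≤ centralizer ({z} : Set G)
  norm : centralizer ({z} : Set G) ≤ normalizer (J : Set G)
  extra : Cfsg.IsExtraspecial 2 ↥J
  card : Nat.card ↥J = 2 ^ 9
  mem : z ∈ J
  self : ∀ g ∈ centralizer ({z} : Set G), (∀ q ∈ J, g * q = q * g) → g ∈ J
  iso : Nonempty (↥U ≃* P)
  autCard : Nat.card (MulAut P) = 2 * 25920
  f : ↥(centralizer ({z} : Set G)) →* MulAut P
  surj : Function.Surjective f
  ker : ∀ h, f h = 1 ↔ (h : G) ∈ J

variable {P : Type v} [Group P]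

/-- The inner part. -/
def OuterSetting.innerPart (S : OuterSetting z J P) : Subgroup G :=
  ((MulAut.conj : P →* MulAut P).range.comap S.f).map (centralizer ({z} : Set G)).subtype

/-- No element outside the centre is central modulo the centre for the inner part. -/
def OuterSetting.NoFix (S : OuterSetting z J P) : Prop :=
  ∀ q ∈ J, (∀ h ∈ S.innerPart, h * q * h⁻¹ * q⁻¹ ∈ zpowers z) → q ∈ zpowers z

set_option maxHeartbeats 1000000 in
/-- Coordinates exist. -/
theorem exists_ecoord (S : OuterSetting z J P) (hfix : S.NoFix) : Nonempty (ECoord z J) := by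
  classical
  obtain ⟨e⟩ := S.iso
  set C := centralizer ({z} : Set G)
  have hconj : Function.Injective (MulAut.conj : P →* MulAut P) := by
    refine (injective_iff_map_eq_one _).2 fun p hp => ?_
    have hz : e.symm p ∈ Subgroup.center ↥U := Subgroup.mem_center_iff.2 fun g => by
      have := congrArg (fun a : MulAut P => a (e g)) hp
      simp only [MulAut.conj_apply, MulAut.one_apply] at this
      apply e.injective
      rw [map_mul, map_mul, MulEquiv.apply_symm_apply]
      exact (mul_inv_eq_iff_eq_mul.1 this).symm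
    haveI := simple_U
    rcases Subgroup.Normal.eq_bot_or_eq_top (inferInstance : (Subgroup.center ↥U).Normal) with h | h
    · rw [h, Subgroup.mem_bot] at hz
      simpa using congrArg e hz
    · exfalso
      have hc := Subgroup.mem_center_iff.1 (h ▸ Subgroup.mem_top (⟨tvP 0, tvP_mem 0⟩ : ↥U)) ⟨tvP 1, tvP_mem 1⟩
      have h2 := (USixType.commute_iff 1 0).1 (congrArg Subtype.val hc)
      revert h2
      decide +kernel
  let cr : P ≃* ↥(MulAut.conj : P →* MulAut P).range := MonoidHom.ofInjective hconj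
  set N2 := S.innerPart with hN2
  have hN2C : ∀ h ∈ N2, h ∈ C := by rintro _ ⟨h, -, rfl⟩; exact h.2
  have hN2m : ∀ h : ↥C, (h : G) ∈ N2 ↔ S.f h ∈ (MulAut.conj : P →* MulAut P).range := fun h =>
    ⟨by rintro ⟨k, hk, hke⟩; rwa [← Subtype.ext hke], fun hh => ⟨h, hh, rfl⟩⟩
  let f2 : ↥N2 →* P :=
    { toFun := fun h => cr.symm ⟨S.f ⟨h, hN2C h h.2⟩, (hN2m ⟨h, hN2C h h.2⟩).1 h.2⟩
      map_one' := by
        rw [← cr.symm.map_one]
        exact congrArg cr.symm (Subtype.ext (map_one S.f))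
      map_mul' := fun a b => by
        rw [← cr.symm.map_mul]
        exact congrArg cr.symm (Subtype.ext (map_mul S.f ⟨a, hN2C a a.2⟩ ⟨b, hN2C b b.2⟩)) }
  have hf2c : ∀ h : ↥N2, MulAut.conj (f2 h) = S.f ⟨h, hN2C h h.2⟩ := fun h => by
    have := congrArg Subtype.val (cr.apply_symm_apply ⟨S.f ⟨h, hN2C h h.2⟩, (hN2m ⟨h, hN2C h h.2⟩).1 h.2⟩)
    exact this
  have hf2ker : ∀ h, f2 h = 1 ↔ (h : G) ∈ J := fun h => by
    rw [← hconj.eq_iff, hf2c, map_one, S.ker]
  have hf2s : Function.Surjective f2 := fun p => by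
    obtain ⟨h, hh⟩ := S.surj (MulAut.conj p)
    exact ⟨⟨h, (hN2m h).2 ⟨p, hh.symm⟩⟩, hconj (by rw [hf2c]; exact hh)⟩
  have hJN : J ≤ N2 := fun q hq => (hN2m ⟨q, S.le hq⟩).2 (by rw [(S.ker ⟨q, S.le hq⟩).2 hq]; exact one_mem _)
  have hzC : z ∈ C := mem_centralizer_singleton_iff.2 rfl
  let z2 : ↥N2 := ⟨z, hJN S.mem⟩
  let J2 : Subgroup ↥N2 := J.subgroupOf N2
  have hall : centralizer ({z2} : Set ↥N2) = ⊤ := top_le_iff.1 fun h _ =>
    mem_centralizer_singleton_iff.2 (Subtype.ext (mem_centralizer_singleton_iff.1 (hN2C h h.2)))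
  have eJ : ↥J2 ≃* ↥J := Subgroup.subgroupOfEquivOfLe hJN
  have hS2 : NatSetting z2 J2 :=
    { order := by rw [← orderOf_injective N2.subtype N2.subtype_injective]; exact S.order
      le := by rw [hall]; exact le_top
      norm := fun h _ => mem_normalizer_iff.2 fun q => by
        simp only [J2, Subgroup.mem_subgroupOf, Subgroup.coe_mul, Subgroup.coe_inv]
        exact mem_normalizer_iff.1 (S.norm (hN2C h h.2)) q
      extra := extraspecial_congr eJ.symm S.extra
      card := by rw [Nat.card_congr eJ.toEquiv]; exact S.card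
      mem := S.mem
      self := fun g _ hg => S.self g (hN2C g g.2) fun q hq =>
        congrArg Subtype.val (hg ⟨q, hJN hq⟩ hq)
      quot := fun F _ _ hF => by
        obtain ⟨e2⟩ := equiv_forty (K := F) hF
        refine ⟨((e.symm.trans e2).toMonoidHom.comp f2).comp (centralizer ({z2} : Set ↥N2)).subtype,
          fun p => ?_, fun h => ?_⟩
        · obtain ⟨h, hh⟩ := hf2s ((e.symm.trans e2).symm p)
          exact ⟨⟨h, hall ▸ Subgroup.mem_top h⟩, by simp [hh]⟩
        · show (e.symm.trans e2) (f2 h.1) = 1 ↔ _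
          rw [MulEquiv.map_eq_one_iff, hf2ker]
          rfl
      nofix := fun q hq hh => by
        have := hfix q hq fun h hh' => by
          obtain ⟨n, hn⟩ := hh ⟨h, hh'⟩ (hall ▸ Subgroup.mem_top _)
          exact ⟨n, by simpa using congrArg Subtype.val hn⟩
        obtain ⟨n, hn⟩ := this
        exact ⟨n, Subtype.ext (by simpa using hn)⟩ }
  obtain ⟨c⟩ := exists_coord hS2
  have hcz : ∀ h : ↥N2, Commute h z2 := fun h =>
    Subtype.ext (mem_centralizer_singleton_iff.1 (hN2C h h.2))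
  let β : G → Vt := fun q => if hq : q ∈ N2 then c.β ⟨q, hq⟩ else 0
  have hβ : ∀ q, ∀ hq : q ∈ J, β q = c.β ⟨q, hJN hq⟩ := fun q hq => dif_pos (hJN hq)
  have hCn : ∀ h ∈ C, ∀ q ∈ J, h * q * h⁻¹ ∈ J := fun h hh q hq => (mem_normalizer_iff.1 (S.norm hh) q).1 hq
  let L : Vt → G := fun v => ((c.β_surj v).choose : ↥N2)
  have hL : ∀ v, L v ∈ J ∧ β (L v) = v := fun v => by
    have := (c.β_surj v).choose_spec
    exact ⟨this.1, by rw [hβ (L v) this.1]; exact this.2⟩
  have hzp : ∀ b, ((zp z2 b : ↥N2) : G) = zp z b := fun b => by cases b <;> rfl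
  have hsame : ∀ h ∈ C, ∀ q ∈ J, β (h * q * h⁻¹) = β (h * L (β q) * h⁻¹) := by
    intro h hh q hq
    have hLq := hL (β q)
    obtain ⟨b, hb⟩ := c.eq_or_mul_z (p := ⟨L (β q), hJN hLq.1⟩) (q := ⟨q, hJN hq⟩) hLq.1 hq
      (by rw [← hβ _ hLq.1, ← hβ _ hq]; exact hLq.2)
    have hb' : q = L (β q) * zp z b := by rw [← hzp]; exact congrArg Subtype.val hb
    have hm := hCn h hh _ hLq.1
    have hm' := hCn h hh q hq
    rw [hβ _ hm, hβ _ hm', show (⟨h * q * h⁻¹, hJN hm'⟩ : ↥N2) = ⟨h * L (β q) * h⁻¹, hJN hm⟩ * zp z2 b from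
      Subtype.ext (by
        show h * q * h⁻¹ = h * L (β q) * h⁻¹ * ((zp z2 b : ↥N2) : G)
        rw [hzp]
        conv_lhs => rw [hb']
        rw [mul_assoc (h * L (β q)), (Coord.zp_comm ((show Commute h z from
          mem_centralizer_singleton_iff.1 hh).inv_left) b).eq]
        group), c.β_mul_zp hm]
  let π : G → Equiv.Perm Vt := fun h => if hh : h ∈ C then
    { toFun := fun v => β (h * L v * h⁻¹)
      invFun := fun v => β (h⁻¹ * L v * h⁻¹⁻¹)
      left_inv := fun v => by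
        have hm := hCn h hh _ (hL v).1
        show β (h⁻¹ * L (β (h * L v * h⁻¹)) * h⁻¹⁻¹) = v
        rw [← hsame h⁻¹ (inv_mem hh) _ hm]
        simpa [mul_assoc] using (hL v).2
      right_inv := fun v => by
        have hm := hCn h⁻¹ (inv_mem hh) _ (hL v).1
        show β (h * L (β (h⁻¹ * L v * h⁻¹⁻¹)) * h⁻¹) = v
        rw [← hsame h hh _ hm]
        simpa [mul_assoc] using (hL v).2 }
    else 1
  have hπ : ∀ h ∈ C, ∀ q ∈ J, β (h * q * h⁻¹) = π h (β q) := fun h hh q hq => by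
    simp only [π, dif_pos hh]
    exact hsame h hh q hq
  have hext : ∀ p p' : Equiv.Perm Vt, (∀ q ∈ J, p (β q) = p' (β q)) → p = p' := fun p p' H => Equiv.ext fun v => by
    have := H _ (hL v).1
    rwa [(hL v).2] at this
  have hπN : ∀ h : ↥N2, π h = c.π h := fun h => hext _ _ fun q hq => by
    rw [← hπ h (hN2C h h.2) q hq, hβ _ (hCn h (hN2C h h.2) q hq), hβ _ hq]
    exact c.equiv h (hcz h) ⟨q, hJN hq⟩ hq
  have hπmul : ∀ h ∈ C, ∀ k ∈ C, π (h * k) = π h * π k := fun h hh k hk => hext _ _ fun q hq => by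
    rw [Equiv.Perm.mul_apply, ← hπ k hk q hq, ← hπ h hh _ (hCn k hk q hq), ← hπ _ (mul_mem hh hk) q hq]
    congr 1
    group
  have hβmul : ∀ p ∈ J, ∀ q ∈ J, β (p * q) = β p + β q := fun p hp q hq => by
    rw [hβ _ (mul_mem hp hq), hβ _ hp, hβ _ hq]
    exact c.β_mul ⟨p, hJN hp⟩ hp ⟨q, hJN hq⟩ hq
  have hπadd : ∀ h ∈ C, ∀ u w, π h (u + w) = π h u + π h w := fun h hh u w => by
    conv_lhs => rw [← (hL u).2, ← (hL w).2, ← hβmul _ (hL u).1 _ (hL w).1]
    rw [← hπ h hh _ (mul_mem (hL u).1 (hL w).1), show h * (L u * L w) * h⁻¹ = (h * L u * h⁻¹) * (h * L w * h⁻¹) by group,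
      hβmul _ (hCn h hh _ (hL u).1) _ (hCn h hh _ (hL w).1), hπ h hh _ (hL u).1, hπ h hh _ (hL w).1, (hL u).2,
      (hL w).2]
  have hπ1 : π 1 = 1 := by
    have := hπN 1
    rwa [Subgroup.coe_one, c.π_one] at this
  have hπinv : ∀ h ∈ C, π h⁻¹ = (π h)⁻¹ := fun h hh => eq_inv_of_mul_eq_one_left (by
    rw [← hπmul _ (inv_mem hh) _ hh, inv_mul_cancel, hπ1])
  have hπU : ∀ h : ↥N2, π h ∈ U := fun h => by rw [hπN]; exact c.π_mem h (hcz h)
  -- the unitary group is the quotient
  have hlift : ∀ g ∈ U, ∃ h : ↥N2, π h = g := fun g hg => by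
    obtain ⟨h, -, e⟩ := c.π_surj g hg
    exact ⟨h, by rw [hπN, e]⟩
  have hkerN : ∀ h : ↥N2, π h = 1 ↔ (h : G) ∈ J := fun h => by rw [hπN]; exact c.π_ker h (hcz h)
  let Φ : ↥U →* P :=
    { toFun := fun g => f2 (hlift g.1 g.2).choose
      map_one' := by
        rw [hf2ker, ← hkerN]
        exact (hlift _ (one_mem U)).choose_spec
      map_mul' := fun a b => by
        rw [← map_mul, ← inv_mul_eq_one, ← map_inv, ← map_mul, hf2ker, ← hkerN]
        simp only [Subgroup.coe_mul, Subgroup.coe_inv]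
        rw [hπmul _ (hN2C _ (inv_mem (hlift _ _).choose.2)) _ (hN2C _ (mul_mem (hlift _ _).choose.2 (hlift _ _).choose.2)),
          hπinv _ (hN2C _ (hlift _ _).choose.2), (hlift _ _).choose_spec,
          hπmul _ (hN2C _ (hlift _ _).choose.2) _ (hN2C _ (hlift _ _).choose.2), (hlift _ _).choose_spec,
          (hlift _ _).choose_spec]
        exact inv_mul_cancel _
        all_goals first | exact a.2 | exact b.2 | exact mul_mem a.2 b.2 }
  have hΦ : ∀ h : ↥N2, Φ ⟨π h, hπU h⟩ = f2 h := fun h => by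
    show f2 _ = f2 h
    rw [← inv_mul_eq_one, ← map_inv, ← map_mul, hf2ker, ← hkerN]
    simp only [Subgroup.coe_mul, Subgroup.coe_inv]
    rw [hπmul _ (hN2C _ (inv_mem (hlift _ _).choose.2)) _ (hN2C _ h.2),
      hπinv _ (hN2C _ (hlift _ _).choose.2), (hlift _ _).choose_spec]
    exact inv_mul_cancel _
    all_goals exact hπU h
  have hΦb : Function.Bijective Φ := by
    refine ⟨(injective_iff_map_eq_one Φ).2 fun g hg => ?_, fun p => ?_⟩
    · obtain ⟨h, hh⟩ := hlift g.1 g.2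
      have e1 : g = ⟨π h, hπU h⟩ := Subtype.ext hh.symm
      rw [e1, hΦ, hf2ker, ← hkerN] at hg
      rw [e1]; exact Subtype.ext hg
    · obtain ⟨h, rfl⟩ := hf2s p
      exact ⟨_, hΦ h⟩
  let ΦE := MulEquiv.ofBijective Φ hΦb
  let σU : MulAut ↥U :=
    { toFun := fun g => ⟨sig * g.1 * sig⁻¹, semi_sig.normalize g.2⟩
      invFun := fun g => ⟨sig⁻¹ * g.1 * sig⁻¹⁻¹, semi_sig.inv.normalize g.2⟩
      left_inv := fun g => Subtype.ext (by show sig⁻¹ * (sig * g.1 * sig⁻¹) * sig⁻¹⁻¹ = g.1; group)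
      right_inv := fun g => Subtype.ext (by show sig * (sig⁻¹ * g.1 * sig⁻¹⁻¹) * sig⁻¹ = g.1; group)
      map_mul' := fun a b => Subtype.ext (by
        show sig * (a.1 * b.1) * sig⁻¹ = (sig * a.1 * sig⁻¹) * (sig * b.1 * sig⁻¹); group) }
  obtain ⟨h0, hh0⟩ := S.surj ((ΦE.symm.trans σU).trans ΦE)
  have hnorm : ∀ h : ↥N2, (h0 : G) * h * (h0 : G)⁻¹ ∈ N2 := fun h => by
    refine (hN2m (h0 * ⟨h, hN2C h h.2⟩ * h0⁻¹)).2 ?_
    rw [map_mul, map_mul, map_inv, ← hf2c h]
    exact ⟨S.f h0 (f2 h), MulEquiv.ext fun x => by simp [MulAut.conj_apply]⟩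
  have hsemi0 : ∃ l : Fin 4, l ≠ 0 ∧ ∀ v, π h0 v = sigF (sm l.val v) := by
    have hk : ∀ i, sig⁻¹ * π h0 * tvP i = tvP i * (sig⁻¹ * π h0) := fun i => by
      obtain ⟨h, hh⟩ := hlift _ (tvP_mem i)
      have e1 : f2 ⟨_, hnorm h⟩ = S.f h0 (f2 h) := hconj (by
        rw [hf2c]
        show S.f (h0 * ⟨h, hN2C h h.2⟩ * h0⁻¹) = _
        rw [map_mul, map_mul, map_inv, ← hf2c h]
        exact MulEquiv.ext fun x => by simp [MulAut.conj_apply])
      rw [← hΦ, ← hΦ, hh0] at e1
      have e2 : (⟨π ((h0 : G) * h * (h0 : G)⁻¹), hπU ⟨_, hnorm h⟩⟩ : ↥U) = σU ⟨π h, hπU h⟩ := by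
        apply ΦE.injective
        refine e1.trans ?_
        show ΦE (σU (ΦE.symm (ΦE ⟨π h, hπU h⟩))) = _
        rw [MulEquiv.symm_apply_apply]
      have e3 : π ((h0 : G) * h * (h0 : G)⁻¹) = sig * π h * sig⁻¹ := congrArg Subtype.val e2
      rw [hπmul _ (mul_mem h0.2 (hN2C h h.2)) _ (inv_mem h0.2), hπmul _ h0.2 _ (hN2C h h.2), hπinv _ h0.2, hh] at e3
      calc sig⁻¹ * π h0 * tvP i = sig⁻¹ * (π h0 * tvP i * (π h0)⁻¹) * π h0 := by group
        _ = _ := by rw [e3]; group
    have hadd : ∀ u w, (sig⁻¹ * π h0) (u + w) = (sig⁻¹ * π h0) u + (sig⁻¹ * π h0) w := fun u w => by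
      simp only [Equiv.Perm.mul_apply, hπadd _ h0.2, semi_sig.inv.map_add]
    obtain ⟨l, hl, el⟩ := scalar_of_commute hadd hk
    refine ⟨l, hl, fun v => ?_⟩
    have := congrArg sig (el v)
    rw [Equiv.Perm.mul_apply, Equiv.Perm.coe_inv, Equiv.apply_symm_apply] at this
    exact this
  obtain ⟨l, hl, hl'⟩ := hsemi0
  have hs0 : Semi (π h0) := by
    rw [show π h0 = sig * smP l hl from Equiv.ext hl']
    exact semi_sig.mul_lin (lin_of_scalar hl fun _ => rfl)
  have hrange : (MulAut.conj : P →* MulAut P).range.index = 2 := by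
    have h1 := (MulAut.conj : P →* MulAut P).range.card_mul_index
    rw [← Nat.card_congr cr.toEquiv, ← Nat.card_congr e.toEquiv, card_U, S.autCard] at h1
    omega
  have hout : ∀ h, ∀ hh : h ∈ C, h ∉ N2 → (h0 : G)⁻¹ * h ∈ N2 := fun h hh hn => by
    have n0 : (h0 : G) ∉ N2 := fun hm => not_lin_semi (lin_of_mem (hπU ⟨_, hm⟩)) hs0
    refine (hN2m (h0⁻¹ * ⟨h, hh⟩)).2 ?_
    rw [map_mul, Subgroup.mul_mem_iff_of_index_two hrange]
    exact iff_of_false (fun e => n0 ((hN2m h0).2 (by simpa using (MonoidHom.range _).inv_mem e)))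
      fun e => hn ((hN2m ⟨h, hh⟩).2 e)
  have hmemπ : ∀ h ∈ C, π h ∈ U ∨ Semi (π h) := fun h hh => by
    by_cases hn : h ∈ N2
    · exact Or.inl (hπU ⟨h, hn⟩)
    · right
      have := hπU ⟨_, hout h hh hn⟩
      rw [show π h = π h0 * π ((h0 : G)⁻¹ * h) by
        rw [← hπmul _ h0.2 _ (mul_mem (inv_mem h0.2) hh), mul_inv_cancel_left]]
      exact hs0.mul_lin (lin_of_mem this)
  have hnU : ∀ h ∈ C, π h ∉ U → h ∉ N2 := fun h _ hU hm => hU (hπU ⟨h, hm⟩)
  have hC : ∀ {h : G}, Commute h z → h ∈ C := fun hh => mem_centralizer_singleton_iff.2 hh.eq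
  refine ⟨{
    β := β
    π := π
    order := S.order
    le := fun q hq => mem_centralizer_singleton_iff.1 (S.le hq)
    norm := fun h hh q hq => hCn h (hC hh) q hq
    mem := S.mem
    card := S.card
    β_mul := hβmul
    β_surj := fun v => ⟨L v, hL v⟩
    β_ker := fun q hq => by
      rw [hβ _ hq, c.β_ker ⟨q, hJN hq⟩ hq]
      exact or_congr Subtype.ext_iff Subtype.ext_iff
    sq := fun q hq => by
      rw [hβ _ hq, ← hzp]
      exact congrArg Subtype.val (c.sq ⟨q, hJN hq⟩ hq)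
    comm := fun p hp q hq => by
      rw [hβ _ hp, hβ _ hq, ← hzp]
      exact congrArg Subtype.val (c.comm ⟨p, hJN hp⟩ hp ⟨q, hJN hq⟩ hq)
    π_mem := fun h hh => hmemπ h (hC hh)
    π_semi := fun h k hh hk e e' => by
      refine hπU ⟨h * k, ?_⟩
      have a := hout h (hC hh) (hnU h (hC hh) e)
      have b := hnU k (hC hk) e'
      refine (hN2m (⟨h, hC hh⟩ * ⟨k, hC hk⟩)).2 ?_
      rw [map_mul, Subgroup.mul_mem_iff_of_index_two hrange]
      exact iff_of_false (fun e2 => hnU h (hC hh) e ((hN2m ⟨h, hC hh⟩).2 e2)) fun e2 => b ((hN2m ⟨k, hC hk⟩).2 e2)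
    π_mul := fun h k hh hk => hπmul h (hC hh) k (hC hk)
    π_ker := fun h hh => by
      by_cases hn : h ∈ N2
      · exact hkerN ⟨h, hn⟩
      · refine iff_of_false (fun e => ?_) fun e => hn (hJN e)
        have := hπU ⟨_, hout h (hC hh) hn⟩
        rw [hπmul _ (inv_mem h0.2) _ (hC hh), e, mul_one, hπinv _ h0.2] at this
        exact not_lin_semi (lin_of_mem (inv_mem this)) (by rw [inv_inv]; exact hs0)
    π_surj := fun g hg => by
      obtain ⟨h, hh⟩ := hlift g hg
      exact ⟨h, mem_centralizer_singleton_iff.1 (hN2C h h.2), hh⟩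
    outer := ⟨h0, mem_centralizer_singleton_iff.1 h0.2, hs0, Equiv.ext fun v => by
        show π h0 (π h0 v) = v
        rw [hl', hl']
        exact (smSig_facts l hl v.code).1, fun r hr => (smSig_facts l hl r.code).2 ((hl' r).symm.trans hr)⟩
    equiv := fun h hh q hq => hπ h (hC hh) q hq }⟩

end Cfsg.Lib.USixType.Ext
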