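import Cfsg.Agent.USixType.Ext.Weak

/-!
# No semilinear element of the centraliser is conjugate to the involution
-/

set_option autoImplicit false
set_option Elab.async false
set_option maxRecDepth 100000

namespace Cfsg.Lib.USixType.Ext

open Subgroup

universe u

variable {G : Type u} [Group G] {z : G} {J : Subgroup G}

theorem B_comm (u v : Vt) : B u v = B v u := by rw [← phi_swap u v, ← phi_swap v u, Bool.xor_comm]

theorem h_real_comm {g : Equiv.Perm Vt} (hg : Semi g) {r r' : Vt} (hr : g r = r) (hr' : g r' = r') :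
    h r r' = h r' r := by
  have a := (real hg hr hr').1
  have b := (real hg hr' hr).1
  have e := phi_swap r r'
  rw [(real hg hr hr').2, phi, phi] at e
  revert e
  interval_cases h r r' <;> interval_cases h r' r <;> simp

theorem B_omega {g : Equiv.Perm Vt} (hg : Semi g) {r r' : Vt} (hr : g r = r) (hr' : g r' = r') :
    B (sm 2 r') r = true ↔ h r r' = 1 := by
  rw [B_comm, B, h_sm_right]
  have := (real hg hr hr').1
  interval_cases h r r' <;> decide

theorem xor_one_cases : ∀ a < 2, ∀ b < 2, a ^^^ b = 0 → a = b := by decide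

theorem lin_fixed_ge {τ : Equiv.Perm Vt} (hadd : ∀ u v, τ (u + v) = τ u + τ v) (h2 : τ * τ = 1) :
    16 ≤ {v : Vt | τ v = v}.ncard := by
  let f : Vt →+ Vt := AddMonoidHom.mk' (fun v => τ v + v) fun u v => by rw [hadd]; abel
  have hk : {v : Vt | τ v = v}.ncard = Nat.card f.ker := by
    rw [← Nat.card_coe_set_eq]
    refine Nat.card_congr (Equiv.subtypeEquivRight fun v => ?_)
    show τ v = v ↔ τ v + v = 0
    refine ⟨fun e => by rw [e, Vt.add_self], fun e => ?_⟩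
    have := congrArg (· + v) e
    simpa [add_assoc, Vt.add_self] using this
  have hle : f.range ≤ f.ker := by
    rintro _ ⟨v, rfl⟩
    show τ (τ v + v) + (τ v + v) = 0
    rw [hadd, show τ (τ v) = v from congrArg (fun p : Equiv.Perm Vt => p v) h2, add_comm v, Vt.add_self]
  have h1 := AddSubgroup.card_eq_card_quotient_mul_card_addSubgroup f.ker
  rw [Nat.card_congr (QuotientAddGroup.quotientKerEquivRange f).toEquiv, Nat.card_eq_fintype_card (α := Vt),
    Vt.card_eq] at h1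
  have h3 := AddSubgroup.card_le_of_le hle
  rw [hk]
  nlinarith

namespace ECoord

variable [Finite G]

/-- Counting by a doubling. -/
theorem card_le_two_cent {P : Subgroup G} {x s : G} (hP : ∀ q ∈ P, x * q * x⁻¹ = q ∨ x * q * x⁻¹ = q * s)
    (hs : ∀ q ∈ P, Commute q s) : Nat.card ↥P ≤ 2 * Nat.card ↥(P ⊓ centralizer ({x} : Set G)) := by
  classical
  by_cases hsub : P ≤ centralizer ({x} : Set G)
  · rw [inf_of_le_left hsub]; omega
  obtain ⟨a, ha, ha'⟩ := SetLike.not_le_iff_exists.1 hsub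
  have hca : x * a * x⁻¹ = a * s := (hP a ha).resolve_left fun e =>
    ha' (mem_centralizer_singleton_iff.2 (mul_inv_eq_iff_eq_mul.1 e).symm)
  let f : Bool × ↥(P ⊓ centralizer ({x} : Set G)) → ↥P := fun p =>
    if p.1 then ⟨a * p.2.1, mul_mem ha p.2.2.1⟩ else ⟨p.2.1, p.2.2.1⟩
  have hf : Function.Surjective f := fun k => by
    by_cases hk : (k : G) ∈ centralizer ({x} : Set G)
    · exact ⟨(false, ⟨k, k.2, hk⟩), rfl⟩
    · have hck : x * k * x⁻¹ = k * s := (hP k k.2).resolve_left fun e =>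
        hk (mem_centralizer_singleton_iff.2 (mul_inv_eq_iff_eq_mul.1 e).symm)
      have e : x * (a⁻¹ * k) * x⁻¹ = a⁻¹ * k := by
        rw [show x * (a⁻¹ * k) * x⁻¹ = (x * a * x⁻¹)⁻¹ * (x * k * x⁻¹) by group, hca, hck, (hs a ha).eq,
          (hs k k.2).eq]
        group
      exact ⟨(true, ⟨a⁻¹ * k, Subgroup.mem_inf.2 ⟨P.mul_mem (P.inv_mem ha) k.2,
        mem_centralizer_singleton_iff.2 (mul_inv_eq_iff_eq_mul.1 e).symm⟩⟩), Subtype.ext (mul_inv_cancel_left a k)⟩
  have := Nat.card_le_card_of_surjective f hf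
  rwa [Nat.card_prod, show Nat.card Bool = 2 by simp] at this

set_option maxHeartbeats 2000000 in
/-- A conjugate in the centraliser acts linearly. -/
theorem no_outer (c : ECoord z J) {g : G} (hc : Commute (g * z * g⁻¹) z) : c.π (g * z * g⁻¹) ∈ U := by
  classical
  by_contra hU
  obtain ⟨s, hsdef⟩ : ∃ s, g * z * g⁻¹ = s := ⟨_, rfl⟩
  rw [hsdef] at hc hU
  set J' := J.map (MulAut.conj g).toMonoidHom
  obtain ⟨c'⟩ : Nonempty (ECoord s J') := ⟨hsdef ▸ c.map g⟩
  have hs2 : s * s = 1 := c'.z_sq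
  have hsinv : s⁻¹ = s := inv_eq_of_mul_eq_one_left hs2
  set ρ := c.π s
  have hρ : Semi ρ := c.semi_of_notin hc hU
  have hρ2 : ρ * ρ = 1 := by rw [← c.π_mul s s hc hc, hs2, c.π_one]
  have hsJ : s ∉ J := fun e => hU (by show c.π s ∈ U; rw [c.π_of_mem e]; exact one_mem U)
  have hsne : s ≠ z := fun e => hsJ (e ▸ c.mem)
  have hzJ' : z ∉ J' := fun e => hsne (by
    have := c'.weak_closed (g := g⁻¹) (by
      rwa [show g⁻¹ * s * g⁻¹⁻¹ = z by rw [← hsdef]; group])
    rw [show g⁻¹ * s * g⁻¹⁻¹ = z by rw [← hsdef]; group] at this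
    exact this.symm)
  set Q' := J' ⊓ centralizer ({z} : Set G)
  set I := J ⊓ Q'
  have hQz : ∀ q ∈ Q', Commute q z := fun q hq => mem_centralizer_singleton_iff.1 hq.2
  have hQs : ∀ q ∈ Q', Commute q s := fun q hq => c'.le q hq.1
  -- the lifts
  have hx : ∀ p ∈ J, s * p⁻¹ * s * p ∈ J ∧ c.β (s * p⁻¹ * s * p) = ρ (c.β p) + c.β p := fun p hp => by
    have hm : s * p⁻¹ * s ∈ J := by
      have := c.norm s hc p⁻¹ (inv_mem hp)
      rwa [hsinv] at this
    refine ⟨mul_mem hm hp, ?_⟩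
    rw [c.β_mul _ hm p hp]
    have := c.equiv s hc p⁻¹ (inv_mem hp)
    rw [hsinv, c.β_inv hp] at this
    rw [this]
  have hinvert : ∀ q ∈ J, ρ (c.β q) = c.β q → s * q * s = q⁻¹ := fun q hq hr => by
    obtain ⟨p, hp, hpv⟩ := c.β_surj (sm 2 (c.β q))
    obtain ⟨hm, hβ⟩ := hx p hp
    rw [hpv, add_comm, fixed_image hρ hr] at hβ
    obtain ⟨b, hb⟩ := c.eq_or_mul_z hm hq hβ
    rw [hb]
    have e : s * (s * p⁻¹ * s * p) * s = (s * p⁻¹ * s * p)⁻¹ := by
      rw [mul_inv_rev, mul_inv_rev, mul_inv_rev, inv_inv, hsinv,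
        show s * (s * p⁻¹ * s * p) * s = (s * s) * p⁻¹ * s * p * s by group, hs2, one_mul]
      group
    have hzb : ∀ y : G, Commute y z → y * zp z b = zp z b * y := fun y hy => (Coord.zp_comm hy b).eq
    rw [mul_inv_rev, show (zp z b)⁻¹ = zp z b from inv_eq_of_mul_eq_one_left (by rw [c.zp_mul, Bool.xor_self]; rfl),
      ← hzb _ (c.le _ (inv_mem hm)), ← e, mul_assoc, mul_assoc, ← hzb s hc]
    group
  have hfixQ : ∀ q ∈ J, Commute q s → ρ (c.β q) = c.β q := fun q hq hqs => by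
    rw [← c.equiv s hc q hq, hqs.symm.eq, mul_inv_cancel_right]
  have hQfalse : ∀ q ∈ J, Commute q s → Q (c.β q) = false := fun q hq hqs => by
    apply c.zp_inj
    rw [← c.sq q hq]
    have := hinvert q hq (hfixQ q hq hqs)
    rw [← hqs.eq, mul_assoc, hs2, mul_one] at this
    show q * q = 1
    conv_lhs => arg 2; rw [this]
    rw [mul_inv_cancel]
  have hlift : ∀ r, ρ r = r → Q r = false → ∃ q ∈ J, Commute q s ∧ c.β q = r := fun r hr hQr => by
    obtain ⟨q, hq, rfl⟩ := c.β_surj r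
    refine ⟨q, hq, ?_, rfl⟩
    have e := hinvert q hq hr
    have e2 : q⁻¹ = q := inv_eq_of_mul_eq_one_left (by rw [c.sq q hq, hQr]; rfl)
    rw [e2] at e
    show q * s = s * q
    conv_lhs => rw [← e]
    rw [mul_assoc, hs2, mul_one]
  -- no element of the intersection shifts to a conjugate
  have hID : ∀ d ∈ I, ∀ k : G, k * z * k⁻¹ = s * d → d = 1 := fun d hd k hk => by
    have hm : s * d ∈ J' := mul_mem c'.mem hd.2.1
    have e : (k * g⁻¹) * s * (k * g⁻¹)⁻¹ = s * d := by rw [← hk, ← hsdef]; group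
    have := c'.weak_closed (g := k * g⁻¹) (by rw [e]; exact hm)
    rw [e] at this
    exact mul_eq_left.1 this
  have hzI : ∀ d ∈ I, c.β d = 0 → d = 1 := fun d hd e => by
    rcases (c.β_ker d hd.1).1 e with h | h
    · exact h
    · exact absurd (h ▸ hd.2.1) hzJ'
  have hshift : ∀ p ∈ J, p⁻¹ * g * z * (p⁻¹ * g)⁻¹ = s * (s * p⁻¹ * s * p) := fun p _ => by
    rw [show s * (s * p⁻¹ * s * p) = (s * s) * (p⁻¹ * s * p) by group, hs2, one_mul, ← hsdef]
    group
  have hdz : ∀ d ∈ I, d ≠ 1 → ∀ p ∈ J, c.β (s * p⁻¹ * s * p) = c.β d → s * p⁻¹ * s * p = d * z := fun d hd hd1 p hp e => by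
    obtain ⟨b, hb⟩ := c.eq_or_mul_z hd.1 (hx p hp).1 e.symm
    cases b
    · exfalso
      refine hd1 (hID d hd (p⁻¹ * g) ?_)
      rw [hshift p hp, hb]
      simp [zp]
    · rw [hb]; rfl
  -- the intersection is trivial when the form is not alternating
  have hnonalt : ∀ r₀, ρ r₀ = r₀ → Q r₀ = true → ∀ d ∈ I, d = 1 := fun r₀ hr₀ hQ₀ d hd => by
    by_contra hd1
    obtain ⟨q0, hq0, rfl⟩ := c.β_surj r₀
    obtain ⟨p, hp, hpv⟩ := c.β_surj (sm 2 (c.β d))
    have hr := hfixQ d hd.1 (hQs d hd.2)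
    have e := hdz d hd hd1 p hp (by rw [(hx p hp).2, hpv, add_comm, fixed_image hρ hr])
    refine hd1 (hID d hd (p⁻¹ * q0 * g) ?_)
    have eq0 : q0 * s * q0⁻¹ = s * z := by
      have e1 := hinvert q0 hq0 hr₀
      have e2 : q0⁻¹ * q0⁻¹ = z := by
        rw [← mul_inv_rev, c.sq q0 hq0, hQ₀]
        exact c.z_inv
      rw [show q0 * s * q0⁻¹ = (s * s) * q0 * s * q0⁻¹ by rw [hs2, one_mul], show s * s * q0 * s * q0⁻¹ =
        s * (s * q0 * s) * q0⁻¹ by group, e1, mul_assoc, e2]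
    rw [show p⁻¹ * q0 * g * z * (p⁻¹ * q0 * g)⁻¹ = p⁻¹ * (q0 * s * q0⁻¹) * p by rw [← hsdef]; group, eq0,
      show p⁻¹ * (s * z) * p = s * s * (p⁻¹ * (s * z) * p) by rw [hs2, one_mul],
      show s * s * (p⁻¹ * (s * z) * p) = s * (s * p⁻¹ * s * (z * p)) by group, ← (c.le p hp).eq,
      show s * (s * p⁻¹ * s * (p * z)) = s * ((s * p⁻¹ * s * p) * z) by group, e, mul_assoc d, c.z_sq, mul_one]
  -- distinct elements of the intersection
  have hpair : ∀ d₁ ∈ I, ∀ d₂ ∈ I, d₁ ≠ 1 → d₂ ≠ 1 → d₁ ≠ d₂ → h (c.β d₁) (c.β d₂) = 1 := by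
    intro d₁ h₁ d₂ h₂ n₁ n₂ hne
    have r₁ := hfixQ d₁ h₁.1 (hQs d₁ h₁.2)
    have r₂ := hfixQ d₂ h₂.1 (hQs d₂ h₂.2)
    obtain ⟨p₁, hp₁, hv₁⟩ := c.β_surj (sm 2 (c.β d₁))
    obtain ⟨p₂, hp₂, hv₂⟩ := c.β_surj (sm 2 (c.β d₂))
    have e₁ := hdz d₁ h₁ n₁ p₁ hp₁ (by rw [(hx p₁ hp₁).2, hv₁, add_comm, fixed_image hρ r₁])
    have e₂ := hdz d₂ h₂ n₂ p₂ hp₂ (by rw [(hx p₂ hp₂).2, hv₂, add_comm, fixed_image hρ r₂])
    have d₂inv : d₂⁻¹ = d₂ := inv_eq_of_mul_eq_one_left (by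
      rw [c.sq d₂ h₂.1, hQfalse d₂ h₂.1 (hQs d₂ h₂.2)]; rfl)
    have n12 : d₁ * d₂ ≠ 1 := fun e => hne (by rw [← d₂inv]; exact eq_inv_of_mul_eq_one_left e)
    have e₁₂ := hdz (d₁ * d₂) (mul_mem h₁ h₂) n12 (p₁ * p₂) (mul_mem hp₁ hp₂) (by
      rw [(hx _ (mul_mem hp₁ hp₂)).2, c.β_mul p₁ hp₁ p₂ hp₂, c.β_mul d₁ h₁.1 d₂ h₂.1, hρ.map_add,
        add_add_add_comm, hv₁, hv₂, add_comm (ρ _) (sm 2 (c.β d₁)), fixed_image hρ r₁,
        add_comm (ρ _) (sm 2 (c.β d₂)), fixed_image hρ r₂])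
    rw [← B_omega hρ r₁ r₂, ← hv₂]
    by_contra hB
    have hB' : B (c.β p₂) (c.β d₁) = false := eq_false_of_ne_true hB
    have hcd : Commute p₂ d₁ := (c.commute_iff hp₂ h₁.1).2 hB'
    have key : s * (p₁ * p₂)⁻¹ * s * (p₁ * p₂) = (s * p₂⁻¹ * s) * (s * p₁⁻¹ * s * p₁) * p₂ := by
      rw [show (s * p₂⁻¹ * s) * (s * p₁⁻¹ * s * p₁) * p₂ = s * p₂⁻¹ * (s * s) * p₁⁻¹ * s * p₁ * p₂ by group, hs2]
      group
    rw [key, e₁, show s * p₂⁻¹ * s * (d₁ * z) * p₂ = (s * p₂⁻¹ * s * p₂) * (p₂⁻¹ * d₁ * (z * p₂)) by group,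
      ← (c.le p₂ hp₂).eq, show p₂⁻¹ * d₁ * (p₂ * z) = p₂⁻¹ * (d₁ * p₂) * z by group, ← hcd.eq,
      inv_mul_cancel_left, e₂, mul_assoc d₂ z, ← mul_assoc z d₁, ← (c.le d₁ h₁.1).eq, mul_assoc d₁, c.z_sq,
      mul_one] at e₁₂
    have hc12 : Commute d₂ d₁ := (c.commute_iff h₂.1 h₁.1).2 (real hρ r₂ r₁).2
    rw [hc12.eq] at e₁₂
    exact c.z_ne_one (left_eq_mul.1 e₁₂)
  -- linear elements of the other side
  set A := Q' ⊓ c.inner
  have hAJ : A ⊓ J ≤ I := fun q hq => ⟨hq.2, hq.1.1⟩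
  have hAlin : ∀ q ∈ A, Lin (c.π q) ∧ ∀ r, ρ r = r → ρ (c.π q r) = c.π q r := fun q hq => by
    refine ⟨lin_of_mem hq.2.2, fun r hr => ?_⟩
    have e : ρ * c.π q = c.π q * ρ := by
      rw [← c.π_mul s q hc hq.2.1, ← c.π_mul q s hq.2.1 hc, (hQs q hq.1).eq]
    have e' := congrArg (fun p : Equiv.Perm Vt => p r) e
    simp only [Equiv.Perm.mul_apply] at e'
    rw [hr] at e'
    exact e'
  have hfixI : ∀ q ∈ A, ∀ d ∈ I, c.π q (c.β d) = c.β d := fun q hq d hd => by
    have hcm := c'.comm q hq.1.1 d hd.2.1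
    cases hB : B (c'.β q) (c'.β d) <;> rw [hB] at hcm
    · rw [← c.equiv q hq.2.1 d hd.1, mul_inv_eq_one.1 hcm]
    · refine absurd ?_ hsJ
      rw [show s = q * d * q⁻¹ * d⁻¹ from hcm.symm]
      exact mul_mem (c.norm q hq.2.1 d hd.1) (J.inv_mem hd.1)
  have hshiftA : ∀ q ∈ A, ∀ r, ρ r = r → Q r = false → ∃ d ∈ I, c.π q r = r + c.β d := fun q hq r hr hQr => by
    obtain ⟨p, hp, hps, rfl⟩ := hlift r hr hQr
    refine ⟨q * p * q⁻¹ * p⁻¹, ⟨mul_mem (c.norm q hq.2.1 p hp) (J.inv_mem hp), ?_, ?_⟩, ?_⟩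
    · rw [show q * p * q⁻¹ * p⁻¹ = q * (p * q⁻¹ * p⁻¹) by group]
      exact mul_mem hq.1.1 (c'.norm p hps q⁻¹ (J'.inv_mem hq.1.1))
    · exact mem_centralizer_singleton_iff.2
        (((hQz q hq.1).mul_left (c.le p hp)).mul_left (hQz q hq.1).inv_left |>.mul_left (c.le p hp).inv_left).eq
    · rw [c.β_mul _ (c.norm q hq.2.1 p hp) _ (J.inv_mem hp), c.β_inv hp, c.equiv q hq.2.1 p hp, add_comm,
        add_assoc, Vt.add_self, add_zero]
  have hIinj : Set.InjOn c.β (I : Set G) := fun a ha b hb e => by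
    have := hzI (a⁻¹ * b) (mul_mem (inv_mem ha) hb) (by
      rw [c.β_mul _ (inv_mem ha.1) b hb.1, c.β_inv ha.1, e, Vt.add_self])
    exact inv_mul_eq_one.1 this
  -- equality of linear elements from equality on the fixed vectors
  have heq : ∀ a ∈ A, ∀ b ∈ A, (∀ r, ρ r = r → c.π a r = c.π b r) → c.π a = c.π b := fun a ha b hb e => by
    have := ext_lin hρ hρ2 ((hAlin b hb).1.inv.mul (hAlin a ha).1) fun r hr => by
      rw [Equiv.Perm.mul_apply, e r hr]
      exact (c.π b).symm_apply_apply r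
    exact (inv_mul_eq_one.1 this).symm
  -- counting
  have hsplit := c.card_split (K := A) fun q hq => hq.2.1
  have hAI : Nat.card ↥(A ⊓ J) ≤ Nat.card ↥I := Subgroup.card_le_of_le hAJ
  have h2 : Nat.card ↥Q' ≤ 2 * Nat.card ↥A := c.card_le_two_inner (K := Q') hQz
  -- the other side is large
  have hbig : 16 ≤ Nat.card ↥Q' := by
    let P : Subgroup G :=
      { carrier := {q | q ∈ J' ∧ c'.π z (c'.β q) = c'.β q}
        one_mem' := ⟨one_mem J', by
          rw [c'.β_one]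
          exact (c'.π_mem z hc.symm).elim (fun e => (lin_of_mem e).map_zero) fun e => e.map_zero⟩
        mul_mem' := fun {a b} ha hb => ⟨mul_mem ha.1 hb.1, by rw [c'.β_mul a ha.1 b hb.1, c'.π_add hc.symm, ha.2, hb.2]⟩
        inv_mem' := fun {a} ha => ⟨inv_mem ha.1, by rw [c'.β_inv ha.1, ha.2]⟩ }
    have hz2 : c'.π z * c'.π z = 1 := by rw [← c'.π_mul z z hc.symm hc.symm, c.z_sq, c'.π_one]
    have hfix : 16 ≤ {v | c'.π z v = v}.ncard := lin_fixed_ge (c'.π_add hc.symm) hz2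
    have hsP : s ∈ P := ⟨c'.mem, by
      rw [c'.β_z]
      exact (c'.π_mem z hc.symm).elim (fun e => (lin_of_mem e).map_zero) fun e => e.map_zero⟩
    have hPc := c'.card_pre (K := P) (fun q hq => hq.1) hsP
    have himg : c'.β '' (P : Set G) = {v | c'.π z v = v} := Set.ext fun v => ⟨by
      rintro ⟨q, hq, rfl⟩; exact hq.2, fun hv => by
      obtain ⟨q, hq, e⟩ := c'.β_surj v
      exact ⟨q, ⟨hq, by rw [e]; exact hv⟩, e⟩⟩
    rw [himg] at hPc
    have hP2 : ∀ q ∈ P, z * q * z⁻¹ = q ∨ z * q * z⁻¹ = q * s := fun q hq => by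
      obtain ⟨b, hb⟩ := c'.eq_or_mul_z hq.1 (c'.norm z hc.symm q hq.1) (by rw [c'.equiv z hc.symm q hq.1, hq.2])
      cases b
      · left; simpa [zp] using hb
      · right; simpa [zp] using hb
    have h3 := card_le_two_cent hP2 fun q hq => c'.le q hq.1
    have h4 : Nat.card ↥(P ⊓ centralizer ({z} : Set G)) ≤ Nat.card ↥Q' :=
      Subgroup.card_le_of_le (inf_le_inf_right _ fun q hq => hq.1)
    omega
  have hIcard : Nat.card ↥I = (c.β '' (I : Set G)).ncard := by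
    rw [Set.InjOn.ncard_image hIinj, ← Nat.card_coe_set_eq]
    rfl
  by_cases htwo : ∃ d₁ ∈ I, ∃ d₂ ∈ I, d₁ ≠ 1 ∧ d₂ ≠ 1 ∧ d₁ ≠ d₂
  · obtain ⟨d₁, h₁, d₂, h₂, n₁, n₂, hne⟩ := htwo
    have halt : ∀ r, ρ r = r → Q r = false := fun r hr => by
      by_contra hh
      exact n₁ (hnonalt r hr (by simpa using hh) d₁ h₁)
    have hA1 : ∀ q ∈ A, c.π q = 1 := fun q hq => ext_lin hρ hρ2 (hAlin q hq).1 fun r hr => by
      obtain ⟨d, hd, e⟩ := hshiftA q hq r hr (halt r hr)
      have horth : ∀ d' ∈ I, h (c.β d) (c.β d') = 0 := fun d' hd' => by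
        have e1 := (hAlin q hq).1.map_h r (c.β d')
        rw [hfixI q hq d' hd', e, h_add_left] at e1
        simpa using e1
      rw [e, hzI d hd ?_, c.β_one, add_zero]
      by_contra hd0
      have hd1 : d ≠ 1 := fun e => hd0 (by rw [e, c.β_one])
      rcases eq_or_ne d d₁ with rfl | hn
      · exact absurd ((horth d₂ h₂).symm.trans (hpair d hd d₂ h₂ hd1 n₂ hne)) (by norm_num)
      · exact absurd ((horth d₁ h₁).symm.trans (hpair d hd d₁ h₁ hd1 n₁ hn)) (by norm_num)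
    have hI4 : Nat.card ↥I ≤ 4 := by
      show Nat.card ↥(I : Set G) ≤ 4
      rw [Nat.card_coe_set_eq]
      refine le_trans (Set.ncard_le_ncard (t := {1, d₁, d₂, d₁ * d₂}) (fun d hd => ?_) (Set.toFinite _))
        ((Set.ncard_insert_le _ _).trans (Nat.add_le_add_right ((Set.ncard_insert_le _ _).trans
          (Nat.add_le_add_right ((Set.ncard_insert_le _ _).trans (by rw [Set.ncard_singleton])) 1)) 1))
      simp only [Set.mem_insert_iff, Set.mem_singleton_iff]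
      by_contra hh
      push Not at hh
      obtain ⟨a1, a2, a3, a4⟩ := hh
      have n23 : d₂ * d ≠ 1 := fun e => a3 (by
        have h2' : d₂⁻¹ = d₂ := inv_eq_of_mul_eq_one_left (by
          rw [c.sq d₂ h₂.1, hQfalse d₂ h₂.1 (hQs d₂ h₂.2)]; rfl)
        rw [← h2']; exact eq_inv_of_mul_eq_one_right e)
      have n123 : d₁ ≠ d₂ * d := fun e => a4 (by
        have h2' : d₂⁻¹ = d₂ := inv_eq_of_mul_eq_one_left (by
          rw [c.sq d₂ h₂.1, hQfalse d₂ h₂.1 (hQs d₂ h₂.2)]; rfl)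
        have hc12 : Commute d₁ d₂ := (c.commute_iff h₁.1 h₂.1).2
          (real hρ (hfixQ d₁ h₁.1 (hQs d₁ h₁.2)) (hfixQ d₂ h₂.1 (hQs d₂ h₂.2))).2
        rw [hc12.eq, e]
        conv_rhs => arg 1; rw [← h2']
        rw [inv_mul_cancel_left])
      have e := hpair d₁ h₁ (d₂ * d) (mul_mem h₂ hd) n₁ n23 n123
      rw [c.β_mul d₂ h₂.1 d hd.1, h_add_right, hpair d₁ h₁ d₂ h₂ n₁ n₂ hne, hpair d₁ h₁ d hd n₁ a1 (Ne.symm a2)] at e
      norm_num at e
    have himg1 : (c.π '' (A : Set G)).ncard ≤ 1 := by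
      refine le_trans (Set.ncard_le_ncard (t := {1}) ?_ (Set.toFinite _)) (by rw [Set.ncard_singleton])
      rintro _ ⟨q, hq, rfl⟩
      exact hA1 q hq
    have := Nat.mul_le_mul (hAI.trans hI4) himg1
    omega
  · push Not at htwo
    have hI2 : Nat.card ↥I ≤ 2 := by
      by_cases h1 : ∃ i ∈ I, i ≠ 1
      · obtain ⟨i, hi, hi1⟩ := h1
        show Nat.card ↥(I : Set G) ≤ 2
        rw [Nat.card_coe_set_eq]
        refine le_trans (Set.ncard_le_ncard (t := {1, i}) (fun d hd => ?_) (Set.toFinite _))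
          ((Set.ncard_insert_le _ _).trans (by rw [Set.ncard_singleton]))
        by_cases hd1 : d = 1
        · exact Or.inl hd1
        · exact Or.inr (htwo d hd i hi hd1 hi1)
      · push Not at h1
        have : I = ⊥ := (Subgroup.eq_bot_iff_forall I).2 h1
        rw [this, Subgroup.card_bot]; norm_num
    -- at most two linear maps
    suffices himg2 : (c.π '' (A : Set G)).ncard ≤ 2 by
      have := Nat.mul_le_mul (hAI.trans hI2) himg2
      omega
    by_cases hexq : ∃ r₀, ρ r₀ = r₀ ∧ Q r₀ = true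
    · obtain ⟨r₀, hr₀, hQ₀⟩ := hexq
      have hI1 := hnonalt r₀ hr₀ hQ₀
      have hfix0 : ∀ q ∈ A, ∀ r, ρ r = r → Q r = false → c.π q r = r := fun q hq r hr hQr => by
        obtain ⟨d, hd, e⟩ := hshiftA q hq r hr hQr
        rw [e, hI1 d hd, c.β_one, add_zero]
      have hplus : ∀ r, ρ r = r → Q r = true → ρ (r + r₀) = r + r₀ ∧ Q (r + r₀) = false := fun r hr hQr =>
        ⟨by rw [hρ.map_add, hr, hr₀], by rw [Q_add, hQr, hQ₀, (real hρ hr hr₀).2]; rfl⟩
      have hdet : ∀ q ∈ A, ∀ r, ρ r = r → h (c.π q r₀ + r₀) r = if Q r then h (c.π q r₀ + r₀) r₀ else 0 := by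
        intro q hq r hr
        cases hQr : Q r
        · have e := (hAlin q hq).1.map_h r₀ r
          rw [hfix0 q hq r hr hQr] at e
          simp only [Bool.false_eq_true, if_false]
          rw [h_add_left, e, Nat.xor_self]
        · obtain ⟨a, b⟩ := hplus r hr hQr
          have e := (hAlin q hq).1.map_h r₀ (r + r₀)
          rw [hfix0 q hq _ a b, h_add_right, h_add_right] at e
          simp only [if_true]
          rw [h_add_left, h_add_left]
          have k : ∀ a < 4, ∀ b < 4, ∀ x < 4, ∀ y < 4, a ^^^ b = x ^^^ y → a ^^^ x = b ^^^ y := by decide +kernel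
          exact k _ (h_lt _ _) _ (h_lt _ _) _ (h_lt _ _) _ (h_lt _ _) e
      have hone : ∀ q ∈ A, ∀ q' ∈ A, c.π q r₀ ≠ r₀ → c.π q' r₀ ≠ r₀ → c.π q r₀ = c.π q' r₀ := by
        intro q hq q' hq' hn hn'
        have hfx : ∀ q ∈ A, ρ (c.π q r₀ + r₀) = c.π q r₀ + r₀ := fun q hq => by
          rw [hρ.map_add, (hAlin q hq).2 r₀ hr₀, hr₀]
        have hval : ∀ q ∈ A, c.π q r₀ ≠ r₀ → h (c.π q r₀ + r₀) r₀ = 1 := fun q hq hn => by
          have hne : c.π q r₀ + r₀ ≠ 0 := fun e => hn (by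
            have := congrArg (· + r₀) e
            simpa [add_assoc, Vt.add_self] using this)
          obtain ⟨r', hr', e⟩ := fixed_nondeg hρ hρ2 (hfx q hq) hne
          rw [hdet q hq r' hr'] at e
          cases hQr : Q r' <;> simp only [hQr, Bool.false_eq_true, if_false, if_true] at e
          · exact absurd e (by norm_num)
          · exact e
        by_contra hne
        have hne' : (c.π q r₀ + r₀) + (c.π q' r₀ + r₀) ≠ 0 := fun e => hne (by
          rw [add_add_add_comm, Vt.add_self, add_zero] at e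
          have := congrArg (· + c.π q' r₀) e
          simpa [add_assoc, Vt.add_self] using this)
        obtain ⟨r', hr', e⟩ := fixed_nondeg hρ hρ2 (by rw [hρ.map_add, hfx q hq, hfx q' hq']) hne'
        rw [h_add_left, hdet q hq r' hr', hdet q' hq' r' hr', hval q hq hn, hval q' hq' hn'] at e
        cases hQr : Q r' <;> simp [hQr] at e
      have hinj : ∀ a ∈ A, ∀ b ∈ A, c.π a r₀ = c.π b r₀ → c.π a = c.π b := fun a ha b hb e => heq a ha b hb fun r hr => by
        cases hQr : Q r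
        · rw [hfix0 a ha r hr hQr, hfix0 b hb r hr hQr]
        · obtain ⟨a', b'⟩ := hplus r hr hQr
          rw [show r = (r + r₀) + r₀ by rw [add_assoc, Vt.add_self, add_zero], (hAlin a ha).1.map_add,
            (hAlin b hb).1.map_add, hfix0 a ha _ a' b', hfix0 b hb _ a' b', e]
      by_cases hmove : ∃ a ∈ A, c.π a r₀ ≠ r₀
      · obtain ⟨a, ha, hn⟩ := hmove
        refine le_trans (Set.ncard_le_ncard_of_injOn (fun p : Equiv.Perm Vt => p r₀) (t := {r₀, c.π a r₀}) ?_ ?_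
          (Set.toFinite _)) ((Set.ncard_insert_le _ _).trans (by rw [Set.ncard_singleton]))
        · rintro _ ⟨q, hq, rfl⟩
          by_cases e : c.π q r₀ = r₀
          · exact Or.inl e
          · exact Or.inr (hone q hq a ha e hn)
        · rintro _ ⟨x, hx', rfl⟩ _ ⟨y, hy, rfl⟩ e
          exact hinj x hx' y hy e
      · push Not at hmove
        refine le_trans (Set.ncard_le_ncard_of_injOn (fun p : Equiv.Perm Vt => p r₀) (t := {r₀}) ?_ ?_
          (Set.toFinite _)) (by rw [Set.ncard_singleton]; norm_num)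
        · rintro _ ⟨q, hq, rfl⟩
          exact hmove q hq
        · rintro _ ⟨x, hx', rfl⟩ _ ⟨y, hy, rfl⟩ e
          exact hinj x hx' y hy e
    · push Not at hexq
      have halt : ∀ r, ρ r = r → Q r = false := fun r hr => by simpa using hexq r hr
      by_cases h1 : ∃ i ∈ I, i ≠ 1
      · obtain ⟨i, hi, hi1⟩ := h1
        have hi0 : c.β i ≠ 0 := fun e => hi1 (hzI i hi e)
        have hir := hfixQ i hi.1 (hQs i hi.2)
        obtain ⟨r₁, hr₁, hh1⟩ := fixed_nondeg hρ hρ2 hir hi0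
        have hcases : ∀ q ∈ A, ∀ r, ρ r = r → c.π q r = r ∨ c.π q r = r + c.β i := fun q hq r hr => by
          obtain ⟨d, hd, e⟩ := hshiftA q hq r hr (halt r hr)
          by_cases hd1 : d = 1
          · left; rw [e, hd1, c.β_one, add_zero]
          · right; rw [e, htwo d hd i hi hd1 hi1]
        have hdet : ∀ q ∈ A, ∀ r, ρ r = r → c.π q r₁ = r₁ → c.π q r = r := fun q hq r hr e1 => by
          rcases hcases q hq r hr with e | e
          · exact e
          · have e2 := (hAlin q hq).1.map_h r r₁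
            rw [e, e1, h_add_left, hh1] at e2
            exact absurd e2 ((show ∀ a < 4, ¬ a ^^^ 1 = a by decide) _ (h_lt r r₁))
        have hdet2 : ∀ a ∈ A, ∀ b ∈ A, c.π a r₁ = c.π b r₁ → c.π a = c.π b := fun a ha b hb e => by
          have hm : b⁻¹ * a ∈ A := mul_mem (inv_mem hb) ha
          have e' : c.π (b⁻¹ * a) r₁ = r₁ := by
            rw [c.π_mul _ _ hb.2.1.inv_left ha.2.1, c.π_inv hb.2.1, Equiv.Perm.mul_apply, e]
            exact (c.π b).symm_apply_apply r₁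
          have := ext_lin hρ hρ2 (hAlin _ hm).1 fun r hr => hdet _ hm r hr e'
          rw [c.π_mul _ _ hb.2.1.inv_left ha.2.1, c.π_inv hb.2.1] at this
          exact (inv_mul_eq_one.1 this).symm
        refine le_trans (Set.ncard_le_ncard_of_injOn (fun p : Equiv.Perm Vt => p r₁) (t := {r₁, r₁ + c.β i}) ?_ ?_
          (Set.toFinite _)) ((Set.ncard_insert_le _ _).trans (by rw [Set.ncard_singleton]))
        · rintro _ ⟨q, hq, rfl⟩
          exact hcases q hq r₁ hr₁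
        · rintro _ ⟨x, hx', rfl⟩ _ ⟨y, hy, rfl⟩ e
          exact hdet2 x hx' y hy e
      · push Not at h1
        refine le_trans (Set.ncard_le_ncard (t := {1}) ?_ (Set.toFinite _)) (by rw [Set.ncard_singleton]; norm_num)
        rintro _ ⟨q, hq, rfl⟩
        refine ext_lin hρ hρ2 (hAlin q hq).1 fun r hr => ?_
        obtain ⟨d, hd, e⟩ := hshiftA q hq r hr (halt r hr)
        rw [e, h1 d hd, c.β_one, add_zero]

end ECoord

end Cfsg.Lib.USixType.Ext
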