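import Cfsg.Agent.USixType.Weak

/-!
# Semilinear isometries and their real structures
-/

set_option autoImplicit false
set_option Elab.async false
set_option maxRecDepth 100000

namespace Cfsg.Lib.USixType.Ext

open Subgroup

/-- The conjugate of a scalar. -/
def cj (a : ℕ) : ℕ := if a = 2 then 3 else if a = 3 then 2 else a

theorem cj_facts : ∀ a < 4, cj a < 4 ∧ cj (cj a) = a ∧ (cj a = a → a < 2) ∧ (cj a = 0 → a = 0) := by decide

theorem cj_xor : ∀ a < 4, ∀ b < 4, cj (a ^^^ b) = cj a ^^^ cj b := by decide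

/-- A semilinear isometry. -/
structure Semi (g : Equiv.Perm Vt) : Prop where
  map_add : ∀ u v, g (u + v) = g u + g v
  map_sm : ∀ a v, a < 4 → g (sm a v) = sm (cj a) (g v)
  map_h : ∀ u v, h (g u) (g v) = cj (h u v)

/-- A semilinear involution with alternating real form, as a map. -/
def sigF (v : Vt) : Vt :=
  vt (cj (co v 1) + 4 * cj (co v 0) + 16 * cj (co v 3) + 64 * cj (co v 2))

theorem sig_invol : ∀ v : Fin 256, sigF (sigF ⟨v⟩) = ⟨v⟩ := by decide +kernel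

/-- The involution. -/
def sig : Equiv.Perm Vt := ⟨sigF, sigF, fun v => sig_invol v.code, fun v => sig_invol v.code⟩

theorem co_vt4 : ∀ a b c d : Fin 4, co (vt (a.val + 4 * b.val + 16 * c.val + 64 * d.val)) 0 = a.val ∧
    co (vt (a.val + 4 * b.val + 16 * c.val + 64 * d.val)) 1 = b.val ∧
    co (vt (a.val + 4 * b.val + 16 * c.val + 64 * d.val)) 2 = c.val ∧
    co (vt (a.val + 4 * b.val + 16 * c.val + 64 * d.val)) 3 = d.val := by decide +kernel

theorem co_sigF (v : Vt) : co (sigF v) 0 = cj (co v 1) ∧ co (sigF v) 1 = cj (co v 0) ∧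
    co (sigF v) 2 = cj (co v 3) ∧ co (sigF v) 3 = cj (co v 2) :=
  co_vt4 ⟨_, (cj_facts _ (co_lt v 1)).1⟩ ⟨_, (cj_facts _ (co_lt v 0)).1⟩ ⟨_, (cj_facts _ (co_lt v 3)).1⟩
    ⟨_, (cj_facts _ (co_lt v 2)).1⟩

theorem co_ext {u v : Vt} (h0 : co u 0 = co v 0) (h1 : co u 1 = co v 1) (h2 : co u 2 = co v 2) (h3 : co u 3 = co v 3) :
    u = v := by
  refine Vt.ext' ?_
  have a := u.code.isLt
  have b := v.code.isLt
  simp only [co, Nat.shiftRight_eq_div_pow] at h0 h1 h2 h3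
  norm_num at h0 h1 h2 h3
  omega

theorem hc_cj : ∀ a < 4, ∀ b < 4, hc (cj a) (cj b) = cj (hc a b) := by decide +kernel

theorem sigF_sm : ∀ a : Fin 4, ∀ v : Fin 256, sigF (sm a.val ⟨v⟩) = sm (cj a.val) (sigF ⟨v⟩) := by decide +kernel

theorem semi_sig : Semi sig where
  map_add u v := by
    obtain ⟨a0, a1, a2, a3⟩ := co_sigF u
    obtain ⟨b0, b1, b2, b3⟩ := co_sigF v
    obtain ⟨c0, c1, c2, c3⟩ := co_sigF (u + v)
    show sigF (u + v) = sigF u + sigF v
    refine co_ext ?_ ?_ ?_ ?_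
    · rw [c0, co_add, co_add, a0, b0, cj_xor _ (co_lt u 1) _ (co_lt v 1)]
    · rw [c1, co_add, co_add, a1, b1, cj_xor _ (co_lt u 0) _ (co_lt v 0)]
    · rw [c2, co_add, co_add, a2, b2, cj_xor _ (co_lt u 3) _ (co_lt v 3)]
    · rw [c3, co_add, co_add, a3, b3, cj_xor _ (co_lt u 2) _ (co_lt v 2)]
  map_sm a v ha := sigF_sm ⟨a, ha⟩ v.code
  map_h u v := by
    obtain ⟨a0, a1, a2, a3⟩ := co_sigF u
    obtain ⟨b0, b1, b2, b3⟩ := co_sigF v
    show h (sigF u) (sigF v) = cj (h u v)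
    simp only [h, a0, a1, a2, a3, b0, b1, b2, b3]
    rw [hc_cj _ (co_lt u 0) _ (co_lt v 0), hc_cj _ (co_lt u 1) _ (co_lt v 1), hc_cj _ (co_lt u 2) _ (co_lt v 2),
      hc_cj _ (co_lt u 3) _ (co_lt v 3)]
    have key : ∀ a < 4, ∀ b < 4, ∀ c < 4, ∀ d < 4,
        cj b ^^^ cj a ^^^ cj d ^^^ cj c = cj (a ^^^ b ^^^ c ^^^ d) := by decide +kernel
    exact key _ (hc_lt _ _) _ (hc_lt _ _) _ (hc_lt _ _) _ (hc_lt _ _)

namespace Semi

variable {g g' : Equiv.Perm Vt} (hg : Semi g)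
include hg

theorem map_zero : g 0 = 0 := by
  have := hg.map_add 0 0
  rw [add_zero] at this
  exact left_eq_add.1 this

theorem mul_lin (hg' : Lin g') : Semi (g * g') where
  map_add u v := by simp only [Equiv.Perm.mul_apply, hg'.map_add, hg.map_add]
  map_sm a v ha := by simp only [Equiv.Perm.mul_apply, hg'.map_sm a v ha, hg.map_sm a _ ha]
  map_h u v := by simp only [Equiv.Perm.mul_apply, hg.map_h, hg'.map_h]

theorem lin_mul (hg' : Lin g') : Semi (g' * g) where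
  map_add u v := by simp only [Equiv.Perm.mul_apply, hg'.map_add, hg.map_add]
  map_sm a v ha := by simp only [Equiv.Perm.mul_apply, hg.map_sm a v ha, hg'.map_sm _ _ (cj_facts a ha).1]
  map_h u v := by simp only [Equiv.Perm.mul_apply, hg.map_h, hg'.map_h]

theorem mul_semi (hg' : Semi g') : Lin (g * g') where
  map_add u v := by simp only [Equiv.Perm.mul_apply, hg'.map_add, hg.map_add]
  map_sm a v ha := by
    simp only [Equiv.Perm.mul_apply, hg'.map_sm a v ha, hg.map_sm _ _ (cj_facts a ha).1, (cj_facts a ha).2.1]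
  map_h u v := by simp only [Equiv.Perm.mul_apply, hg.map_h, hg'.map_h, (cj_facts _ (h_lt u v)).2.1]

theorem inv : Semi g⁻¹ where
  map_add u v := g.injective (by simp only [Equiv.Perm.coe_inv, Equiv.apply_symm_apply, hg.map_add])
  map_sm a v ha := g.injective (by
    simp only [Equiv.Perm.coe_inv, Equiv.apply_symm_apply, hg.map_sm _ _ (cj_facts a ha).1, (cj_facts a ha).2.1])
  map_h u v := by
    have e := congrArg cj (hg.map_h (g.symm u) (g.symm v))
    rw [Equiv.apply_symm_apply, Equiv.apply_symm_apply, (cj_facts _ (h_lt _ _)).2.1] at e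
    exact e.symm

theorem conj_tvP (i : Fin 45) : g * tvP i * g⁻¹ = tvP (pidx (g (ctr i))) := by
  have hne : g (ctr i) ≠ 0 := fun e => (ctr_iso i).2 (g.injective (e.trans hg.map_zero.symm))
  have hiso : h (g (ctr i)) (g (ctr i)) = 0 := by rw [hg.map_h, (ctr_iso i).1]; rfl
  refine Equiv.ext fun v => ?_
  rw [← tv_eq_of_ne_zero hne hiso]
  show g (tv (ctr i) (g.symm v)) = _
  rw [tv, hg.map_add, hg.map_sm _ _ (h_lt _ _), Equiv.apply_symm_apply, ← hg.map_h, Equiv.apply_symm_apply]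
  rfl

theorem normalize {x : Equiv.Perm Vt} (hx : x ∈ U) : g * x * g⁻¹ ∈ U := by
  induction hx using Subgroup.closure_induction with
  | mem x hx => obtain ⟨i, rfl⟩ := hx; rw [hg.conj_tvP]; exact tvP_mem _
  | one => simp only [mul_one, mul_inv_cancel]; exact one_mem _
  | mul x y _ _ hx hy =>
    rw [show g * (x * y) * g⁻¹ = (g * x * g⁻¹) * (g * y * g⁻¹) by group]; exact mul_mem hx hy
  | inv x _ hx => rw [show g * x⁻¹ * g⁻¹ = (g * x * g⁻¹)⁻¹ by group]; exact inv_mem hx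

end Semi

theorem not_lin_semi {g : Equiv.Perm Vt} (h1 : Lin g) (h2 : Semi g) : False := by
  have e := (h1.map_sm 2 (g.symm ⟨1⟩) (by norm_num)).symm.trans (h2.map_sm 2 (g.symm ⟨1⟩) (by norm_num))
  rw [Equiv.apply_symm_apply] at e
  revert e
  decide +kernel

theorem span_iso : ∀ k : Fin 8, ∃ i : Fin 45, ∃ a : Fin 4, ∃ j : Fin 45, ∃ b : Fin 4,
    bas k = sm a.val (ctr i) + sm b.val (ctr j) := by decide +kernel

theorem unit_tests : ∀ i : Fin 45, ∃ v : Fin 256, h ⟨v⟩ (ctr i) = 1 := by decide +kernel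

theorem sm_comm : ∀ a b : Fin 4, ∀ v : Fin 256, sm a.val (sm b.val ⟨v⟩) = sm b.val (sm a.val ⟨v⟩) := by decide +kernel

theorem h_sm_self : ∀ a : Fin 4, a ≠ 0 → ∀ v : Fin 256, h (sm a.val ⟨v⟩) (sm a.val ⟨v⟩) = h ⟨v⟩ ⟨v⟩ := by decide +kernel

theorem h_sm_right (u v : Vt) : h u (sm 2 v) = mc 3 (h u v) := by
  have e := co_vt4 ⟨mc 2 (co v 0), Nat.mod_lt _ (by norm_num)⟩ ⟨mc 2 (co v 1), Nat.mod_lt _ (by norm_num)⟩
    ⟨mc 2 (co v 2), Nat.mod_lt _ (by norm_num)⟩ ⟨mc 2 (co v 3), Nat.mod_lt _ (by norm_num)⟩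
  have k1 : ∀ x < 4, ∀ y < 4, hc x (mc 2 y) = mc 3 (hc x y) ∧ mc 3 (x ^^^ y) = mc 3 x ^^^ mc 3 y ∧ x ^^^ y < 4 := by
    decide +kernel
  simp only [h, sm, e.1, e.2.1, e.2.2.1, e.2.2.2]
  rw [(k1 _ (co_lt u 0) _ (co_lt v 0)).1, (k1 _ (co_lt u 1) _ (co_lt v 1)).1, (k1 _ (co_lt u 2) _ (co_lt v 2)).1,
    (k1 _ (co_lt u 3) _ (co_lt v 3)).1]
  have a := hc_lt (co u 0) (co v 0)
  have b := hc_lt (co u 1) (co v 1)
  have c := hc_lt (co u 2) (co v 2)
  have d := hc_lt (co u 3) (co v 3)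
  rw [(k1 _ (k1 _ (k1 _ a _ b).2.2 _ c).2.2 _ d).2.1, (k1 _ (k1 _ a _ b).2.2 _ c).2.1, (k1 _ a _ b).2.1]

/-- An additive map commuting with the transvections is a scalar. -/
theorem scalar_of_commute {k : Equiv.Perm Vt} (hadd : ∀ u v, k (u + v) = k u + k v)
    (hc : ∀ i, k * tvP i = tvP i * k) : ∃ l : Fin 4, l ≠ 0 ∧ ∀ v, k v = sm l.val v := by
  have hk0 : k 0 = 0 := by
    have := hadd 0 0
    rw [add_zero] at this
    exact left_eq_add.1 this
  have hctr : ∀ i, ∃ m : Fin 4, k (ctr i) = sm m.val (ctr i) := fun i => by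
    obtain ⟨v, hv⟩ := unit_tests i
    refine ⟨⟨h (k ⟨v⟩) (ctr i), h_lt _ _⟩, ?_⟩
    have e : k (tv (ctr i) ⟨v⟩) = tv (ctr i) (k ⟨v⟩) := congrArg (fun p : Equiv.Perm Vt => p ⟨v⟩) (hc i)
    rw [tv, hv, hadd, tv, sm_one (ctr i).code] at e
    exact add_left_cancel e
  have hU : ∀ w ∈ U, ∀ v, k (w v) = w (k v) := by
    intro w hw
    induction hw using Subgroup.closure_induction with
    | mem x hx => obtain ⟨i, rfl⟩ := hx; exact fun v => congrArg (fun p : Equiv.Perm Vt => p v) (hc i)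
    | one => exact fun v => rfl
    | mul x y _ _ hx hy => intro v; rw [Equiv.Perm.mul_apply, hx, hy]; rfl
    | inv x _ hx =>
      intro v
      refine x.injective ?_
      rw [← hx]
      simp
  obtain ⟨l, hl⟩ := hctr 0
  rw [ctr_zero.1] at hl
  have hiso : ∀ v : Vt, h v v = 0 → k v = sm l.val v := by
    intro v hv
    by_cases h0 : v = 0
    · rw [h0, hk0, sm_zero]
    obtain ⟨i⟩ := v
    have e := (vec_words i).resolve_left h0
    rw [if_pos hv, ← key_word, ev_key (wordP_mem _)] at e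
    conv_lhs => rw [← e, hU _ (wordP_mem _), hl, (lin_of_mem (wordP_mem _)).map_sm _ _ l.isLt, e]
  refine ⟨l, fun e => ?_, fun v => ?_⟩
  · have hz : k ⟨5⟩ = k 0 := by
      rw [hl, e, hk0]
      decide +kernel
    exact absurd (k.injective hz) (by decide)
  · refine eq_of_bas (f := fun v => k v) (g := fun v => sm l.val v) hadd (fun u v => sm_add l.isLt u v) (fun j => ?_) v
    obtain ⟨i, a, i', b, e⟩ := span_iso j
    have hh : ∀ i : Fin 45, ∀ a : Fin 4, k (sm a.val (ctr i)) = sm l.val (sm a.val (ctr i)) := fun i a => by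
      apply hiso
      by_cases ha : a = 0
      · rw [ha]
        exact (show ∀ i : Fin 45, h (sm 0 (ctr i)) (sm 0 (ctr i)) = 0 by decide +kernel) i
      · have := h_sm_self a ha (ctr i).code
        exact this.trans (ctr_iso i).1
    show k (bas j) = sm l.val (bas j)
    rw [e, hadd, sm_add l.isLt, hh, hh]

theorem smSig_facts : ∀ l : Fin 4, l ≠ 0 → ∀ v : Fin 256, sigF (sm l.val (sigF (sm l.val ⟨v⟩))) = ⟨v⟩ ∧
    (sigF (sm l.val ⟨v⟩) = ⟨v⟩ → h ⟨v⟩ ⟨v⟩ = 0) := by decide +kernel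

/-- Scalars. -/
theorem lin_of_scalar {k : Equiv.Perm Vt} {l : Fin 4} (hl : l ≠ 0) (hk : ∀ v, k v = sm l.val v) : Lin k where
  map_add u v := by rw [hk, hk, hk, sm_add l.isLt]
  map_sm a v ha := by rw [hk, hk]; exact sm_comm l ⟨a, ha⟩ v.code
  map_h := by
    have hadd : ∀ u v, sm l.val (u + v) = sm l.val u + sm l.val v := sm_add l.isLt
    have e := h_preserved (f := sm l.val) hadd ((show ∀ l : Fin 4, l ≠ 0 → ∀ j k : Fin 8,
      h (sm l.val (bas j)) (sm l.val (bas k)) = h (bas j) (bas k) by decide +kernel) l hl)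
    intro u v
    rw [hk, hk]
    exact e u v

section fixed

variable {g : Equiv.Perm Vt} (hg : Semi g) (h2 : g * g = 1)
include hg h2

theorem split_fixed (v : Vt) : g (v + g v) = v + g v ∧ g (v + sm 2 (v + g v)) = v + sm 2 (v + g v) := by
  have hgg : g (g v) = v := congrArg (fun p : Equiv.Perm Vt => p v) h2
  have h1 : g (v + g v) = v + g v := by rw [hg.map_add, hgg, add_comm]
  refine ⟨h1, ?_⟩
  rw [hg.map_add, hg.map_sm 2 _ (by norm_num), h1, show cj 2 = 3 from rfl]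
  have h3 : ∀ w : Vt, sm 3 w = sm 2 w + w := fun w => by
    obtain ⟨i⟩ := w
    exact (show ∀ i : Fin 256, sm 3 ⟨i⟩ = sm 2 ⟨i⟩ + ⟨i⟩ by decide +kernel) i
  rw [h3, add_comm (sm 2 (v + g v)), ← add_assoc]
  congr 1
  rw [add_comm v (g v), ← add_assoc, Vt.add_self, zero_add]

omit h2 in
theorem real {r r' : Vt} (hr : g r = r) (hr' : g r' = r') : h r r' < 2 ∧ B r r' = false := by
  have e := hg.map_h r r'
  rw [hr, hr'] at e
  have := (cj_facts _ (h_lt r r')).2.2.1 e.symm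
  exact ⟨this, decide_eq_false (by omega)⟩

omit h2 in
theorem fixed_image {r : Vt} (hr : g r = r) : sm 2 r + g (sm 2 r) = r := by
  rw [hg.map_sm 2 _ (by norm_num), hr]
  obtain ⟨i⟩ := r
  exact (show ∀ i : Fin 256, sm 2 ⟨i⟩ + sm 3 ⟨i⟩ = ⟨i⟩ by decide +kernel) i

theorem ext_lin {n : Equiv.Perm Vt} (hn : Lin n) (hfix : ∀ r, g r = r → n r = r) : n = 1 := Equiv.ext fun v => by
  obtain ⟨a, b⟩ := split_fixed hg h2 v
  have e : v = (v + sm 2 (v + g v)) + sm 2 (v + g v) := by rw [add_assoc, Vt.add_self, add_zero]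
  show n v = v
  conv_lhs => rw [e]
  rw [hn.map_add, hn.map_sm 2 _ (by norm_num), hfix _ a, hfix _ b, add_assoc, Vt.add_self, add_zero]

theorem fixed_nondeg {r : Vt} (hr : g r = r) (hne : r ≠ 0) : ∃ r', g r' = r' ∧ h r r' = 1 := by
  obtain ⟨u, hu⟩ := functional_ne r.code hne
  obtain ⟨a, b⟩ := split_fixed hg h2 ⟨u⟩
  by_contra hno
  push Not at hno
  have k1 : ∀ r', g r' = r' → h r r' = 0 := fun r' e => by
    have := (real hg hr e).1
    have := hno r' e
    omega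
  have e : (⟨u⟩ : Vt) = (⟨u⟩ + sm 2 (⟨u⟩ + g ⟨u⟩)) + sm 2 (⟨u⟩ + g ⟨u⟩) := by
    rw [add_assoc, Vt.add_self, add_zero]
  have key : ∀ w, h r w = 0 → h r (sm 2 w) = 0 := fun w hw => by rw [h_sm_right, hw]; decide
  rw [e, B, h_add_right, k1 _ b, key _ (k1 _ a)] at hu
  simp at hu

theorem fixed_count : {v : Vt | g v = v}.ncard = 16 := by
  classical
  let F := {v : Vt // g v = v}
  let e : F × F ≃ Vt :=
    { toFun := fun p => p.1.1 + sm 2 p.2.1
      invFun := fun v => (⟨_, (split_fixed hg h2 v).2⟩, ⟨_, (split_fixed hg h2 v).1⟩)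
      left_inv := fun p => by
        have e1 : p.1.1 + sm 2 p.2.1 + g (p.1.1 + sm 2 p.2.1) = p.2.1 := by
          rw [hg.map_add, p.1.2, add_add_add_comm, Vt.add_self, zero_add, fixed_image hg p.2.2]
        refine Prod.ext (Subtype.ext ?_) (Subtype.ext e1)
        show p.1.1 + sm 2 p.2.1 + sm 2 (p.1.1 + sm 2 p.2.1 + g (p.1.1 + sm 2 p.2.1)) = p.1.1
        rw [e1, add_assoc, Vt.add_self, add_zero]
      right_inv := fun v => by
        show v + sm 2 (v + g v) + sm 2 (v + g v) = v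
        rw [add_assoc, Vt.add_self, add_zero] }
  have hc := Nat.card_congr e
  rw [Nat.card_prod, Nat.card_eq_fintype_card (α := Vt), Vt.card_eq] at hc
  rw [← Nat.card_coe_set_eq]
  exact (Nat.mul_self_inj (n := 16)).1 hc

end fixed

end Cfsg.Lib.USixType.Ext
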