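import Cfsg.Agent.USixType.Ext.Coord

/-!
# The involution is weakly closed in its core
-/

set_option autoImplicit false
set_option Elab.async false
set_option maxRecDepth 100000

namespace Cfsg.Lib.USixType.Ext

open Subgroup

universe u

variable {G : Type u} [Group G] {z : G} {J : Subgroup G}

/-- The vectors orthogonal to the first centre. -/
def dom5 : List Vt := ((List.finRange 256).map Vt.mk).filter fun v => !B ⟨5⟩ v

/-- The displacements by a key. -/
def imgs (n : ℕ) : List Vt := (dom5.map fun v => ev n v + v).dedup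

/-- The keys with singular displacements. -/
def singK (n : ℕ) : Bool :=
  ev n ⟨5⟩ == (⟨5⟩ : Vt) && ev n ⟨10⟩ == (⟨10⟩ : Vt) && mulK n n == idK &&
    let im := imgs n
    im.all fun x => !Q x && !B ⟨10⟩ x && im.all fun y => !B x y

/-- The conjugate of a key by a transvection. -/
def cjK (c : Fin 45) (n : ℕ) : ℕ := let t := keyOf (tv (ctr c)); mulK (mulK t n) t

set_option maxHeartbeats 4000000 in
theorem few_or_large : (grpAKey.filter singK).all (fun n => n == idK || n == T0K ||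
    (List.finRange 45).any fun c => h ⟨5⟩ (ctr c) == 0 && (List.finRange 45).any fun d => h ⟨5⟩ (ctr d) == 0 &&
      (let a := cjK c n; let b := cjK d n
       decide (5 ≤ [idK, n, a, b, mulK n a, mulK n b, mulK a b].dedup.length) &&
       decide (9 ≤ ((imgs n).flatMap fun x => (imgs a).flatMap fun y => [x + y, x + y + ⟨10⟩]).dedup.length))) =
      true := by decide +kernel

theorem B_half (a : Vt) (ha : a ≠ 0) : (∑ v : Vt, if B a v then (-1 : ℤ) else 1) = 0 := by
  classical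
  have h1 : (Finset.univ.filter fun v : Vt => (!B a v) = true).card = 128 := by
    obtain ⟨i⟩ := a
    rw [← half_count i ha, ← ncard_vt fun v => !B ⟨i⟩ v, Set.ncard_eq_toFinset_card']
    congr 1
    ext v
    simp
  have h2 := Finset.card_filter_add_card_filter_not (s := (Finset.univ : Finset Vt)) (fun v => (!B a v) = true)
  rw [Finset.card_univ, Vt.card_eq, h1] at h2
  rw [Finset.sum_ite, Finset.sum_const, Finset.sum_const,
    show (Finset.univ.filter fun v => B a v = true) = Finset.univ.filter fun v => ¬(!B a v) = true by ext v; simp,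
    show (Finset.univ.filter fun v => ¬B a v = true) = Finset.univ.filter fun v => (!B a v) = true by ext v; simp,
    h1, show (Finset.univ.filter fun v => ¬(!B a v) = true).card = 128 by omega]
  simp

/-- A totally isotropic subgroup has at most sixteen vectors. -/
theorem isotropic_le (W : AddSubgroup Vt) (hW : ∀ a ∈ W, ∀ b ∈ W, B a b = false) : (W : Set Vt).ncard ≤ 16 := by
  classical
  set S := (W : Set Vt).toFinset
  set χ : Vt → Vt → ℤ := fun a v => if B a v then -1 else 1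
  have hmul : ∀ a b v, χ a v * χ b v = χ (a + b) v := fun a b v => by
    simp only [χ, B_add_left]
    cases B a v <;> cases B b v <;> simp
  have hzero : ∀ v, χ 0 v = 1 := fun v => by simp [χ, B, (h_zero v).1]
  have e1 : ∑ v : Vt, (∑ a ∈ S, χ a v) * (∑ a ∈ S, χ a v) = 256 * (S.card : ℤ) := by
    simp only [Finset.sum_mul_sum, hmul]
    rw [Finset.sum_comm]
    have key : ∀ a ∈ S, ∑ v : Vt, ∑ b ∈ S, χ (a + b) v = 256 := fun a ha => by
      rw [Finset.sum_comm, Finset.sum_eq_single a]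
      · simp only [Vt.add_self, hzero, Finset.sum_const, Finset.card_univ, Vt.card_eq]
        norm_num
      · intro b _ hb
        exact B_half (a + b) fun e => hb (by
          rw [← add_zero b, ← Vt.add_self a, ← add_assoc, add_comm b a, e, zero_add])
      · exact fun h => absurd ha h
    rw [Finset.sum_congr rfl key, Finset.sum_const]
    simp [mul_comm]
  have e2 : ∀ v ∈ S, (∑ a ∈ S, χ a v) * (∑ a ∈ S, χ a v) = (S.card : ℤ) * S.card := fun v hv => by
    have : ∑ a ∈ S, χ a v = S.card := by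
      rw [Finset.sum_congr rfl fun a ha => show χ a v = 1 by simp [χ, hW a (by simpa [S] using ha) v (by simpa [S] using hv)]]
      simp
    rw [this]
  have e3 : ∑ v ∈ S, (∑ a ∈ S, χ a v) * (∑ a ∈ S, χ a v) ≤ ∑ v : Vt, (∑ a ∈ S, χ a v) * (∑ a ∈ S, χ a v) :=
    Finset.sum_le_sum_of_subset_of_nonneg (Finset.subset_univ S) fun v _ _ => mul_self_nonneg _
  rw [e1, Finset.sum_congr rfl e2, Finset.sum_const, nsmul_eq_mul] at e3
  have hS : (W : Set Vt).ncard = S.card := Set.ncard_eq_toFinset_card' _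
  have hpos : (0 : ℤ) < S.card := by
    have : 0 < S.card := Finset.card_pos.2 ⟨0, by simp [S, zero_mem]⟩
    exact_mod_cast this
  rw [hS]
  by_contra hlt
  push Not at hlt
  have h17 : (17 : ℤ) ≤ S.card := by exact_mod_cast hlt
  nlinarith [mul_le_mul h17 h17 (by norm_num) hpos.le, e3]

namespace ECoord

variable [Finite G]

/-- The centraliser in the core of a noncentral element has order `256`. -/
theorem card_centralizer_mem (c : ECoord z J) {s : G} (hs : s ∈ J) (hne : c.β s ≠ 0) :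
    Nat.card ↥(J ⊓ centralizer ({s} : Set G)) = 256 := by
  rw [c.card_pre inf_le_left ⟨c.mem, mem_centralizer_singleton_iff.2 (c.le s hs).eq.symm⟩]
  have himg : c.β '' ((J ⊓ centralizer ({s} : Set G) : Subgroup G) : Set G) =
      {v | (!B (c.β s) v) = true} := by
    ext v
    constructor
    · rintro ⟨q, hq, rfl⟩
      have hcq : Commute s q := (mem_centralizer_singleton_iff.1 hq.2).symm
      have := (c.commute_iff hs hq.1).1 hcq
      simp [this]
    · intro hv
      obtain ⟨q, hq, rfl⟩ := c.β_surj v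
      refine ⟨q, ⟨hq, mem_centralizer_singleton_iff.2 ?_⟩, rfl⟩
      exact ((c.commute_iff hs hq).2 (by simpa using hv)).eq.symm
  rw [himg, ncard_vt, show (List.finRange 256).countP (fun i => !B (c.β s) ⟨i⟩) = 128 from half_count _ hne]

section rotated

variable (c : ECoord z J) {g : G} (hs : g * z * g⁻¹ ∈ J) (hv : c.β (g * z * g⁻¹) = ⟨5⟩)

omit [Finite G] in
include hs hv in
theorem fix5 : ∀ h, Commute h z → Commute h (g * z * g⁻¹) → c.π h ⟨5⟩ = ⟨5⟩ := fun h h1 h2 => by
  rw [← hv, ← c.equiv h h1 _ hs, show h * (g * z * g⁻¹) * h⁻¹ = g * z * g⁻¹ by rw [h2.eq, mul_inv_cancel_right]]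

omit [Finite G] in
include hs hv in
theorem adjust5 : ∀ h, Commute h z → c.π h ⟨5⟩ = ⟨5⟩ → ∃ k, Commute k z ∧ Commute k (g * z * g⁻¹) ∧ c.π k = c.π h := by
  generalize hsdef : g * z * g⁻¹ = s at hs hv ⊢
  intro h hh e5
  obtain ⟨b, hb⟩ := c.eq_or_mul_z hs (c.norm h hh s hs) (by rw [c.equiv h hh s hs, hv, e5])
  cases b
  · exact ⟨h, hh, mul_inv_eq_iff_eq_mul.1 (hb.trans (by simp [zp])), rfl⟩
  · obtain ⟨i, hi⟩ := functional_ne (⟨5⟩ : Vt).code (by decide)
    obtain ⟨q, hq, hqv⟩ := c.β_surj ⟨i⟩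
    have hqs : q * s * q⁻¹ = s * z := by
      have hBt : B (c.β q) (c.β s) = true := by
        rw [hqv, hv, ← phi_swap, Bool.xor_comm, phi_swap]
        exact hi
      rw [c.swap hq hs, hBt]
      simp only [zp, if_true]
      rw [mul_assoc s q z, (c.le q hq).eq]
      group
    refine ⟨q⁻¹ * h, (c.le q hq).inv_left.mul_left hh, ?_, ?_⟩
    · refine mul_inv_eq_iff_eq_mul.1 ?_
      calc q⁻¹ * h * s * (q⁻¹ * h)⁻¹ = q⁻¹ * (h * s * h⁻¹) * q := by group
        _ = q⁻¹ * (q * s * q⁻¹) * q := by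
            rw [hqs]
            simp only [zp, if_true] at hb
            rw [hb]
        _ = s := by group
    · rw [c.π_mul _ _ (c.le q hq).inv_left hh, c.π_of_mem (inv_mem hq), one_mul]

omit [Finite G] in
include hs hv in
theorem adjustU : ∀ w ∈ U, w ⟨5⟩ = ⟨5⟩ → ∃ k, Commute k z ∧ Commute k (g * z * g⁻¹) ∧ c.π k = w := fun w hw e5 => by
  obtain ⟨h, hh, rfl⟩ := c.π_surj w hw
  exact c.adjust5 hs hv h hh e5

omit [Finite G] in
include hs hv in
theorem outer5 : ∃ k, Commute k z ∧ Commute k (g * z * g⁻¹) ∧ c.π k ∉ U := by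
  obtain ⟨a, ha, hsemi, -, -⟩ := c.outer
  have haU : c.π a ∉ U := fun e => not_lin_semi (lin_of_mem e) hsemi
  have hne : c.π a ⟨5⟩ ≠ 0 := fun e => absurd ((c.π a).injective (e.trans hsemi.map_zero.symm)) (by decide)
  have hiso : h (c.π a ⟨5⟩) (c.π a ⟨5⟩) = 0 := by
    rw [hsemi.map_h, show h (⟨5⟩ : Vt) ⟨5⟩ = 0 by decide +kernel]
    rfl
  have e := (vec_words (c.π a ⟨5⟩).code).resolve_left hne
  rw [if_pos hiso, ← key_word, ev_key (wordP_mem _)] at e
  obtain ⟨b, hb, eb⟩ := c.π_surj _ (wordP_mem (vecWord.getD (c.π a ⟨5⟩).code.val []))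
  have h5 : c.π (b⁻¹ * a) ⟨5⟩ = ⟨5⟩ := by
    rw [c.π_mul _ _ hb.inv_left ha, c.π_inv hb, eb, Equiv.Perm.mul_apply]
    exact (congrArg _ e.symm).trans (Equiv.symm_apply_apply _ _)
  obtain ⟨k, k1, k2, k3⟩ := c.adjust5 hs hv _ (hb.inv_left.mul_left ha) h5
  refine ⟨k, k1, k2, fun hU => haU ?_⟩
  rw [k3, c.π_mul _ _ hb.inv_left ha, c.π_inv hb, eb] at hU
  have := mul_mem (wordP_mem (vecWord.getD (c.π a ⟨5⟩).code.val [])) hU
  rwa [mul_inv_cancel_left] at this

set_option maxHeartbeats 4000000 in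
include hs hv in
theorem other_mem : z ∈ J.map (MulAut.conj g).toMonoidHom := by
  classical
  have hadj := c.adjustU hs hv
  have h5 := c.fix5 hs hv
  have hout := c.outer5 hs hv
  set s := g * z * g⁻¹ with hsdef
  set J' := J.map (MulAut.conj g).toMonoidHom
  let c' : ECoord s J' := c.map g
  have hne : c.β s ≠ 0 := by rw [hv]; decide
  have hsz : Commute s z := c.le s hs
  by_contra hz
  have hzs : Commute z s := hsz.symm
  have hπz : c'.π z ≠ 1 := fun e => hz ((c'.π_ker z hzs).1 e)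
  set K := centralizer ({z} : Set G) ⊓ centralizer ({s} : Set G)
  have hKz : ∀ h ∈ K, Commute h z := fun h hh => mem_centralizer_singleton_iff.1 hh.1
  have hKs : ∀ h ∈ K, Commute h s := fun h hh => mem_centralizer_singleton_iff.1 hh.2
  have hKI : ∀ h ∈ K ⊓ c.inner, Commute h z := fun h hh => hKz h hh.1
  have hKJ : K ⊓ c.inner ⊓ J = J ⊓ centralizer ({s} : Set G) := le_antisymm (fun q hq => ⟨hq.2, hq.1.1.2⟩)
    fun q hq => ⟨⟨⟨mem_centralizer_singleton_iff.2 (c.le q hq.1).eq, hq.2⟩, c.le_inner hq.1⟩, hq.1⟩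
  have himg : (c.π '' ((K ⊓ c.inner : Subgroup G) : Set G)).ncard = 192 := by
    rw [← stab_count, List.countP_eq_length_filter,
      ← List.toFinset_card_of_nodup ((nodup_of_ok grpA_ok).filter _)]
    rw [← Set.ncard_coe_finset]
    refine Set.ncard_congr (fun w _ => key w) ?_ ?_ ?_
    · rintro _ ⟨h, hh, rfl⟩
      have hm := hh.2.2
      have e := h5 h (hKz h hh.1) (hKs h hh.1)
      simp [fix5_key hm e, ev_key hm, e]
    · rintro _ _ ⟨a, ha, rfl⟩ ⟨b, hb, rfl⟩ e
      exact key_inj ha.2.2 hb.2.2 e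
    · intro n hn
      simp only [Finset.mem_coe, List.mem_toFinset, List.mem_filter, beq_iff_eq] at hn
      obtain ⟨w, -, e, hu⟩ := exists_of_mem_list grpA_ok hn.1
      obtain ⟨h, h1, h2, rfl⟩ := hadj w hu (by rw [← ev_key hu, e]; exact hn.2)
      exact ⟨_, ⟨h, ⟨⟨mem_centralizer_singleton_iff.2 h1.eq, mem_centralizer_singleton_iff.2 h2.eq⟩, h1, hu⟩, rfl⟩, e⟩
  have e1 := c.card_split hKI
  rw [hKJ, c.card_centralizer_mem hs hne, himg] at e1
  have e3 := c.card_le_two_inner hKz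
  obtain ⟨k, k1, k2, k3⟩ := hout
  have hlt : Nat.card ↥(K ⊓ c.inner) < Nat.card ↥K := by
    by_contra hh
    push Not at hh
    have := Subgroup.eq_of_le_of_card_ge inf_le_left hh
    have hk : k ∈ K ⊓ c.inner := by
      rw [this]
      exact ⟨mem_centralizer_singleton_iff.2 k1.eq, mem_centralizer_singleton_iff.2 k2.eq⟩
    exact k3 hk.2.2
  obtain ⟨m, hm⟩ : Nat.card ↥(K ⊓ c.inner) ∣ Nat.card ↥K := Subgroup.card_dvd_of_le inf_le_left
  have hK2 : Nat.card ↥K = 98304 := by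
    rw [e1] at hlt hm e3
    have : m = 2 := by nlinarith
    omega
  have e2 := c'.card_split hKs
  have h64 : {v | c'.π z v = v}.ncard ≤ 64 := by
    have hsq : c'.π z * c'.π z = 1 := by rw [← c'.π_mul z z hzs hzs, c.z_sq, c'.π_one]
    rcases c'.π_mem z hzs with h | h
    · exact fixed_le h hsq hπz
    · rw [fixed_count h hsq]; norm_num
  have hle : Nat.card ↥(K ⊓ J') ≤ 128 := by
    rw [c'.card_pre inf_le_right (show s ∈ K ⊓ J' from Subgroup.mem_inf.2 ⟨Subgroup.mem_inf.2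
      ⟨mem_centralizer_singleton_iff.2 hsz.eq, mem_centralizer_singleton_iff.2 rfl⟩, c'.mem⟩)]
    refine le_trans (Nat.mul_le_mul_left 2 (Set.ncard_le_ncard ?_ (Set.toFinite _))) (Nat.mul_le_mul_left 2 h64)
    rintro _ ⟨q, hq, rfl⟩
    show c'.π z (c'.β q) = c'.β q
    rw [← c'.equiv z hzs q hq.2, (hKz q hq.1).symm.eq, mul_inv_cancel_right]
  have hdvd : Nat.card ↥(K ⊓ J') ∣ 2 ^ 9 := c'.card ▸ Subgroup.card_dvd_of_le inf_le_right
  obtain ⟨j, hj, ej⟩ := (Nat.dvd_prime_pow Nat.prime_two).1 hdvd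
  have h128 : Nat.card ↥(K ⊓ J') ∣ 128 := by
    rw [ej] at hle ⊢
    exact (Nat.pow_dvd_pow_iff_le_right (by norm_num)).2 ((Nat.pow_le_pow_iff_right (by norm_num)).1
      (show 2 ^ j ≤ 2 ^ 7 by norm_num; exact hle))
  have : 98304 ∣ 128 * (2 * 25920) := by
    rw [← hK2, e2]
    exact Nat.mul_dvd_mul h128 (c'.image_dvd hKs)
  norm_num at this

set_option maxHeartbeats 4000000 in
include hs hv in
theorem exists_omega : ∃ d₀ ∈ J ⊓ J.map (MulAut.conj g).toMonoidHom, c.β d₀ = ⟨10⟩ := by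
  classical
  have hadj := c.adjustU hs hv
  set s := g * z * g⁻¹ with hsdef
  set J' := J.map (MulAut.conj g).toMonoidHom
  let c' : ECoord s J' := c.map g
  have hne : c.β s ≠ 0 := by rw [hv]; decide
  have hsne : s ≠ z := fun e => hne (by rw [e, c.β_z])
  have hzJ : z ∈ J' := c.other_mem hs hv
  set D := J ⊓ J'
  have hsD : s ∈ D := ⟨hs, c'.mem⟩
  have key0 : ∀ b b', zp z b = zp s b' → b = false := fun b b' e => by
    cases b
    · rfl
    · exfalso
      cases b'
      · exact c.z_ne_one e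
      · exact hsne e.symm
  have hsing : ∀ d ∈ D, ∀ d' ∈ D, B (c.β d) (c.β d') = false ∧ Q (c.β d) = false := fun d hd d' hd' =>
    ⟨key0 _ _ ((c.comm d hd.1 d' hd'.1).symm.trans (c'.comm d hd.2 d' hd'.2)),
      key0 _ _ ((c.sq d hd.1).symm.trans (c'.sq d hd.2))⟩
  have hinv : ∀ k : Fin 45, h ⟨5⟩ (ctr k) = 0 → ∀ d ∈ D, ∃ d' ∈ D, c.β d' = tv (ctr k) (c.β d) := by
    intro k hk d hd
    obtain ⟨x, hx1, hx2, hx3⟩ := hadj (tvP k) (tvP_mem k) (by
      rw [tvP_apply, tv, hk, show ∀ v : Vt, sm 0 v = 0 from fun v => by obtain ⟨i⟩ := v; revert i; decide +kernel,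
        add_zero])
    refine ⟨x * d * x⁻¹, ⟨c.norm x hx1 d hd.1, c'.norm x hx2 d hd.2⟩, ?_⟩
    rw [c.equiv x hx1 d hd.1, hx3, tvP_apply]
  by_cases hsmall : ∃ d ∈ D, c.β d ≠ 0 ∧ c.β d ≠ ⟨5⟩
  · obtain ⟨d, hd, hd0, hd5⟩ := hsmall
    obtain ⟨hB, hQ⟩ := hsing s hsD d hd
    rw [hv] at hB
    have hQd := (hsing d hd d hd).2
    by_cases hl : onLine ⟨5⟩ (c.β d) = true
    · simp only [onLine, Bool.or_eq_true, beq_iff_eq, ctr_zero.2] at hl
      rcases hl with ((e | e) | e) | e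
      · exact absurd e hd0
      · exact absurd e hd5
      · exact ⟨d, hd, e⟩
      · refine ⟨d * s, mul_mem hd hsD, ?_⟩
        rw [c.β_mul d hd.1 s hs, e, hv]
        decide +kernel
    · obtain ⟨k, l, hk, hl', hcase⟩ := orbit_line (c.β d).code hQd hB (by simpa using hl)
      obtain ⟨d1, hd1, e1⟩ := hinv k hk d hd
      obtain ⟨d2, hd2, e2⟩ := hinv l hl' d hd
      rw [show (⟨(c.β d).code⟩ : Vt) = c.β d from rfl] at hcase
      rcases hcase with e | e | e
      · exact ⟨d1 * d2, mul_mem hd1 hd2, by rw [c.β_mul d1 hd1.1 d2 hd2.1, e1, e2]; exact e⟩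
      · refine ⟨d1 * d2 * s, mul_mem (mul_mem hd1 hd2) hsD, ?_⟩
        rw [c.β_mul _ (mul_mem hd1.1 hd2.1) s hs, c.β_mul d1 hd1.1 d2 hd2.1, e1, e2, hv, e, add_assoc, Vt.add_self,
          add_zero]
      · exfalso
        have := (hsing _ (mul_mem hd1 hd) _ (mul_mem hd2 hd)).1
        rw [c.β_mul d1 hd1.1 d hd.1, c.β_mul d2 hd2.1 d hd.1, e1, e2, e] at this
        exact Bool.false_ne_true this.symm
  · exfalso
    push Not at hsmall
    have hsz : Commute s z := c.le s hs
    have hβz : c'.β z ≠ 0 := fun e => by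
      rcases (c'.β_ker z hzJ).1 e with h | h
      exacts [c.z_ne_one h, hsne h.symm]
    set K' := J' ⊓ centralizer ({z} : Set G)
    have hKz : ∀ h ∈ K', Commute h z := fun h hh => mem_centralizer_singleton_iff.1 hh.2
    have hKs : ∀ h ∈ K', Commute h s := fun h hh => c'.le h hh.1
    have hK' : Nat.card ↥K' = 256 := c'.card_centralizer_mem hzJ hβz
    have hKD : K' ⊓ c.inner ⊓ J = D := le_antisymm (fun q hq => ⟨hq.2, hq.1.1.1⟩)
      fun q hq => ⟨⟨⟨hq.2, mem_centralizer_singleton_iff.2 (c.le q hq.1).eq⟩, c.le_inner hq.1⟩, hq.1⟩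
    have hD : Nat.card ↥D ≤ 4 := by
      rw [c.card_pre (inf_le_left : D ≤ J) (show z ∈ D from ⟨c.mem, hzJ⟩)]
      show 2 * (c.β '' (D : Set G)).ncard ≤ 4
      have hsub : (c.β '' (D : Set G)) ⊆ {0, ⟨5⟩} := by
        rintro _ ⟨d, hd, rfl⟩
        by_cases h0 : c.β d = 0
        · exact Or.inl h0
        · exact Or.inr (hsmall d hd h0)
      have := (Set.ncard_le_ncard hsub (Set.toFinite _)).trans (Set.ncard_insert_le _ _)
      rw [Set.ncard_singleton] at this
      omega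
    have hcount : (c.π '' ((K' ⊓ c.inner : Subgroup G) : Set G)).ncard ≤
        grpAKey.countP (fun n => ev n ⟨5⟩ == (⟨5⟩ : Vt) && dom5.all fun v =>
          ev n v + v == 0 || ev n v + v == ⟨5⟩) := by
      refine le_trans (Set.ncard_le_ncard_of_injOn key (t := ((grpAKey.filter fun n => ev n ⟨5⟩ == (⟨5⟩ : Vt) &&
        dom5.all fun v => ev n v + v == 0 || ev n v + v == ⟨5⟩).toFinset : Set ℕ)) ?_ ?_ (Finset.finite_toSet _)) ?_
      · rintro _ ⟨q, hq, rfl⟩
        have hm := hq.2.2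
        have e := c.fix5 hs hv q hq.2.1 (hKs q hq.1)
        simp only [Finset.mem_coe, List.mem_toFinset, List.mem_filter, Bool.and_eq_true, beq_iff_eq,
          List.all_eq_true, Bool.or_eq_true]
        refine ⟨fix5_key hm e, by rw [ev_key hm, e], fun v hv' => ?_⟩
        simp only [dom5, List.mem_filter, Bool.not_eq_true'] at hv'
        obtain ⟨p, hp, hpv⟩ := c.β_surj v
        have hps : Commute p s := ((c.commute_iff hs hp).2 (by rw [hv, hpv]; exact hv'.2)).symm
        have hd : q * p * q⁻¹ * p⁻¹ ∈ D := ⟨mul_mem (c.norm q hq.2.1 p hp) (J.inv_mem hp), by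
          rw [show q * p * q⁻¹ * p⁻¹ = q * (p * q⁻¹ * p⁻¹) by group]
          exact mul_mem hq.1.1 (c'.norm p hps q⁻¹ (J'.inv_mem hq.1.1))⟩
        rw [ev_key hm, ← hpv, ← c.equiv q hq.2.1 p hp]
        have e2 : c.β (q * p * q⁻¹ * p⁻¹) = c.β (q * p * q⁻¹) + c.β p := by
          rw [c.β_mul _ (c.norm q hq.2.1 p hp) _ (inv_mem hp), c.β_inv hp]
        rw [← e2]
        by_cases h0 : c.β (q * p * q⁻¹ * p⁻¹) = 0
        · exact Or.inl h0
        · exact Or.inr (hsmall _ hd h0)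
      · rintro _ ⟨a, ha, rfl⟩ _ ⟨b, hb, rfl⟩ e
        exact key_inj ha.2.2 hb.2.2 e
      · rw [Set.ncard_coe_finset, List.countP_eq_length_filter]
        exact List.toFinset_card_le _
    have hfew : grpAKey.countP (fun n => ev n ⟨5⟩ == (⟨5⟩ : Vt) && dom5.all fun v =>
        ev n v + v == 0 || ev n v + v == ⟨5⟩) < 32 := by decide +kernel
    have e1 := c.card_split (K := K' ⊓ c.inner) fun h hh => hKz h hh.1
    rw [hKD] at e1
    have e2 := c.card_le_two_inner hKz
    rw [hK', e1] at e2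
    have := Nat.mul_le_mul hD hcount
    have : (c.π '' ((K' ⊓ c.inner : Subgroup G) : Set G)).ncard < 32 := lt_of_le_of_lt hcount hfew
    nlinarith

set_option maxHeartbeats 4000000 in
include hs hv in
theorem weak_aux : False := by
  classical
  have hadj := c.adjustU hs hv
  have h5 := c.fix5 hs hv
  obtain ⟨d₀, hd₀, h10⟩ := c.exists_omega hs hv
  have hzJ := c.other_mem hs hv
  set s := g * z * g⁻¹ with hsdef
  set J' := J.map (MulAut.conj g).toMonoidHom
  let c' : ECoord s J' := c.map g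
  have hne : c.β s ≠ 0 := by rw [hv]; decide
  have hsz : Commute s z := c.le s hs
  have hsne : s ≠ z := fun e => hne (by rw [e, c.β_z])
  have hβz : c'.β z ≠ 0 := fun e => by
    rcases (c'.β_ker z hzJ).1 e with h | h
    exacts [c.z_ne_one h, hsne h.symm]
  set D := J ⊓ J'
  have key0 : ∀ b b', zp z b = zp s b' → b = false := fun b b' e => by
    cases b
    · rfl
    · exfalso
      cases b'
      · exact c.z_ne_one e
      · exact hsne e.symm
  have hsing : ∀ d ∈ D, ∀ d' ∈ D, B (c.β d) (c.β d') = false ∧ Q (c.β d) = false := fun d hd d' hd' =>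
    ⟨key0 _ _ ((c.comm d hd.1 d' hd'.1).symm.trans (c'.comm d hd.2 d' hd'.2)),
      key0 _ _ ((c.sq d hd.1).symm.trans (c'.sq d hd.2))⟩
  have hne0 : c'.β d₀ ≠ 0 := fun e => by
    rcases (c'.β_ker d₀ hd₀.2).1 e with h | h <;> rw [h] at h10
    · rw [c.β_one] at h10; exact absurd h10 (by decide)
    · rw [hv] at h10; exact absurd h10 (by decide)
  have hnez : c'.β d₀ ≠ c'.β z := fun e => by
    obtain ⟨b, hb⟩ := c'.eq_or_mul_z hzJ hd₀.2 e.symm
    rw [hb, c.β_mul z c.mem _ (by cases b <;> simp [zp, hs, one_mem]), c.β_z, zero_add] at h10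
    cases b
    · rw [show zp s false = 1 from rfl, c.β_one] at h10; exact absurd h10 (by decide)
    · rw [show zp s true = s from rfl, hv] at h10; exact absurd h10 (by decide)
  set K' := J' ⊓ centralizer ({z} : Set G)
  have hKz : ∀ h ∈ K', Commute h z := fun h hh => mem_centralizer_singleton_iff.1 hh.2
  have hKs : ∀ h ∈ K', Commute h s := fun h hh => c'.le h hh.1
  -- linear elements fix the second vector
  have hlin : ∀ q ∈ K' ⊓ c.inner, Commute q d₀ := by
    intro q hq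
    have hl := lin_of_mem hq.2.2
    have e10 : c.π q ⟨10⟩ = ⟨10⟩ := by
      rw [← ctr_zero.2, hl.map_sm 2 _ (by norm_num), h5 q hq.2.1 (hKs q hq.1)]
    obtain ⟨b, hb⟩ := c.eq_or_mul_z hd₀.1 (c.norm q hq.2.1 d₀ hd₀.1) (by
      rw [c.equiv q hq.2.1 d₀ hd₀.1, h10, e10])
    cases b
    · exact mul_inv_eq_iff_eq_mul.1 (hb.trans (by simp [zp]))
    · exfalso
      have := c'.comm q hq.1.1 d₀ hd₀.2
      rw [show q * d₀ * q⁻¹ * d₀⁻¹ = z by
        rw [hb]
        simp only [zp, if_true]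
        rw [mul_assoc d₀, ← (c.le d₀⁻¹ (inv_mem hd₀.1)).eq, mul_inv_cancel_left]] at this
      cases hB : B (c'.β q) (c'.β d₀) <;> rw [hB] at this
      · exact c.z_ne_one this
      · exact hsne this.symm
  -- a nonlinear element moving it
  have hwit : ∃ q ∈ K', ¬ Commute q d₀ := by
    have hQz : Q (c'.β z) = false := by
      apply c'.zp_inj
      rw [← c'.sq z hzJ, c.z_sq]; rfl
    have hh : h (c'.β z) (c'.β z) = 0 := by
      have hlt := h_self_cases (c'.β z)
      have h1 : h (c'.β z) (c'.β z) ≠ 1 := by simpa [Q] using hQz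
      omega
    have e := (vec_words (c'.β z).code).resolve_left hβz
    rw [if_pos hh, ← key_word, ev_key (wordP_mem _)] at e
    set w := wordP (vecWord.getD (c'.β z).code.val []) with hwdef
    have hw : w ∈ U := wordP_mem _
    have hw5 : w ⟨5⟩ = c'.β z := e
    obtain ⟨u, hu1, hu2⟩ := functional_sep (w⁻¹ (c'.β d₀)).code
      (fun e => hne0 (by
        have := congrArg w e
        rwa [show w (w⁻¹ (c'.β d₀)) = c'.β d₀ from w.apply_symm_apply _, (lin_of_mem hw).map_zero] at this))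
      (fun e => hnez (by
        have := congrArg w e
        rwa [show w (w⁻¹ (c'.β d₀)) = c'.β d₀ from w.apply_symm_apply _, hw5] at this))
    obtain ⟨q, hq, hqv⟩ := c'.β_surj (w ⟨u⟩)
    have hwB : ∀ a b, B (w a) (w b) = B a b := fun a b => by rw [B, B, (lin_of_mem hw).map_h]
    have hqz : Commute q z := by
      refine ((c'.commute_iff hzJ hq).2 ?_).symm
      rw [hqv, ← hw5, hwB]
      exact hu1
    refine ⟨q, ⟨hq, mem_centralizer_singleton_iff.2 hqz.eq⟩, fun hc => ?_⟩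
    have := (c'.commute_iff hd₀.2 hq).1 hc.symm
    rw [hqv, ← w.apply_symm_apply (c'.β d₀), hwB] at this
    exact Bool.false_ne_true (this.symm.trans hu2)
  have hK' : Nat.card ↥K' = 256 := c'.card_centralizer_mem hzJ hβz
  have h2 := c.card_le_two_inner hKz
  obtain ⟨q0, hq0, hq0'⟩ := hwit
  have hne' : Nat.card ↥(K' ⊓ c.inner) ≠ 256 := fun e => hq0' (hlin q0 (by
    rw [Subgroup.eq_of_le_of_card_ge inf_le_left (by rw [e, hK']) ]
    exact hq0))
  have hd256 : Nat.card ↥(K' ⊓ c.inner) ∣ 2 ^ 8 := by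
    rw [show (2 : ℕ) ^ 8 = 256 by norm_num, ← hK']; exact Subgroup.card_dvd_of_le inf_le_left
  obtain ⟨j, hj, ej⟩ := (Nat.dvd_prime_pow Nat.prime_two).1 hd256
  have h128 : Nat.card ↥(K' ⊓ c.inner) = 128 := by
    have : j = 7 := by
      rw [hK', ej] at h2
      rcases Nat.lt_or_ge j 7 with hlt | hge
      · have := Nat.pow_le_pow_right (show 1 ≤ 2 by norm_num) (show j ≤ 6 by omega)
        omega
      · rcases eq_or_ne j 8 with rfl | hh
        · exact absurd ej hne'
        · omega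
    rw [ej, this]; norm_num
  have hKD : K' ⊓ c.inner ⊓ J = D := le_antisymm (fun q hq => ⟨hq.2, hq.1.1.1⟩)
    fun q hq => ⟨⟨⟨hq.2, mem_centralizer_singleton_iff.2 (c.le q hq.1).eq⟩, c.le_inner hq.1⟩, hq.1⟩
  have e1 := c.card_split (K := K' ⊓ c.inner) fun h hh => hKz h hh.1
  rw [hKD, h128] at e1
  have hzD : z ∈ D := ⟨c.mem, hzJ⟩
  have eD : Nat.card ↥D = 2 * (c.β '' (D : Set G)).ncard := c.card_pre (inf_le_left : D ≤ J) hzD
  -- the vectors of the intersection
  let W : AddSubgroup Vt :=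
    { carrier := c.β '' (D : Set G)
      zero_mem' := ⟨1, one_mem D, c.β_one⟩
      add_mem' := by
        rintro _ _ ⟨a, ha, rfl⟩ ⟨b, hb, rfl⟩
        exact ⟨a * b, mul_mem ha hb, c.β_mul a ha.1 b hb.1⟩
      neg_mem' := by
        intro a ha
        rwa [Vt.neg_eq] }
  have hW16 : (c.β '' (D : Set G)).ncard ≤ 16 := isotropic_le W (by
    rintro _ ⟨a, ha, rfl⟩ _ ⟨b, hb, rfl⟩
    exact (hsing a ha b hb).1)
  -- the images
  have himg : ∀ q ∈ K' ⊓ c.inner, ∀ v ∈ dom5, c.π q v + v ∈ W := by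
    intro q hq v hv'
    simp only [dom5, List.mem_filter, Bool.not_eq_true'] at hv'
    obtain ⟨p, hp, hpv⟩ := c.β_surj v
    have hps : Commute p s := ((c.commute_iff hs hp).2 (by rw [hv, hpv]; exact hv'.2)).symm
    refine ⟨q * p * q⁻¹ * p⁻¹, ⟨mul_mem (c.norm q hq.2.1 p hp) (J.inv_mem hp), ?_⟩, ?_⟩
    · rw [show q * p * q⁻¹ * p⁻¹ = q * (p * q⁻¹ * p⁻¹) by group]
      exact mul_mem hq.1.1 (c'.norm p hps q⁻¹ (J'.inv_mem hq.1.1))
    · rw [c.β_mul _ (c.norm q hq.2.1 p hp) _ (inv_mem hp), c.β_inv hp, c.equiv q hq.2.1 p hp, hpv]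
  have h10W : (⟨10⟩ : Vt) ∈ W := ⟨d₀, hd₀, h10⟩
  have hsingK : ∀ q ∈ K' ⊓ c.inner, key (c.π q) ∈ grpAKey.filter singK := by
    intro q hq
    have hm := hq.2.2
    have e5 := h5 q hq.2.1 (hKs q hq.1)
    have e10 : c.π q ⟨10⟩ = ⟨10⟩ := by rw [← ctr_zero.2, (lin_of_mem hm).map_sm 2 _ (by norm_num), e5]
    have hsq : c.π q * c.π q = 1 := by
      rw [← c.π_mul q q hq.2.1 hq.2.1]
      refine c.π_of_mem ?_
      rw [c'.sq q hq.1.1]
      cases Q (c'.β q) <;> simp [zp, hs, one_mem]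
    have him : ∀ x ∈ imgs (key (c.π q)), x ∈ W := fun x hx => by
      simp only [imgs, List.mem_dedup, List.mem_map] at hx
      obtain ⟨v, hv', rfl⟩ := hx
      rw [ev_key hm]
      exact himg q hq v hv'
    have hWs : ∀ x ∈ W, ∀ y ∈ W, B x y = false ∧ Q x = false := by
      rintro _ ⟨a, ha, rfl⟩ _ ⟨b, hb, rfl⟩
      exact hsing a ha b hb
    refine List.mem_filter.2 ⟨fix5_key hm e5, ?_⟩
    simp only [singK, Bool.and_eq_true, beq_iff_eq, List.all_eq_true, Bool.not_eq_true']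
    refine ⟨⟨⟨by rw [ev_key hm, e5], by rw [ev_key hm, e10]⟩, ?_⟩, fun x hx => ⟨⟨(hWs x (him x hx) x (him x hx)).2,
      (hWs _ h10W x (him x hx)).1⟩, fun y hy => (hWs x (him x hx) y (him y hy)).1⟩⟩
    rw [← key_mul hm, hsq]
    rfl
  by_cases hbig : ∃ q ∈ K' ⊓ c.inner, key (c.π q) ≠ idK ∧ key (c.π q) ≠ T0K
  · obtain ⟨q, hq, hn1, hn2⟩ := hbig
    have h := List.all_eq_true.1 few_or_large _ (hsingK q hq)
    simp only [Bool.or_eq_true, beq_iff_eq, hn1, hn2, false_or, List.any_eq_true, List.mem_finRange, true_and,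
      Bool.and_eq_true, decide_eq_true_eq] at h
    obtain ⟨i, hi, j', hj', hlen, h9⟩ := h
    have hconj : ∀ i : Fin 45, h ⟨5⟩ (ctr i) = 0 →
        ∃ a ∈ K' ⊓ c.inner, key (c.π a) = cjK i (key (c.π q)) := by
      intro i hi
      obtain ⟨x, x1, x2, x3⟩ := hadj (tvP i) (tvP_mem i) (by
        rw [tvP_apply, tv, hi, show ∀ v : Vt, sm 0 v = 0 from fun v => by obtain ⟨k⟩ := v; revert k; decide +kernel,
          add_zero])
      have hxi : c.π x ∈ U := x3 ▸ tvP_mem i
      refine ⟨x * q * x⁻¹, ⟨⟨c'.norm x x2 q hq.1.1, mem_centralizer_singleton_iff.2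
        ((x1.mul_left hq.2.1).mul_left x1.inv_left).eq⟩,
        mul_mem (mul_mem (c.mem_inner.2 ⟨x1, hxi⟩) hq.2) (c.inner.inv_mem (c.mem_inner.2 ⟨x1, hxi⟩))⟩, ?_⟩
      rw [c.π_mul _ _ (x1.mul_left hq.2.1) x1.inv_left, c.π_mul _ _ x1 hq.2.1, c.π_inv x1, x3, cjK]
      rw [key_mul (mul_mem (tvP_mem i) hq.2.2), key_mul (tvP_mem i), inv_eq_of_mul_eq_one_left (tvP_sq i), key_tvP]
    obtain ⟨a, ha, ea⟩ := hconj i hi
    obtain ⟨b, hb, eb⟩ := hconj j' hj'
    have h5le : 5 ≤ (c.π '' ((K' ⊓ c.inner : Subgroup G) : Set G)).ncard := by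
      refine le_trans hlen (le_trans ?_ (Set.ncard_image_le (f := key) (Set.toFinite _)))
      rw [← List.toFinset_card_of_nodup (List.nodup_dedup _), ← Set.ncard_coe_finset]
      refine Set.ncard_le_ncard ?_ (Set.toFinite _)
      intro n hn
      simp only [Finset.mem_coe, List.mem_toFinset, List.mem_dedup, List.mem_cons, List.not_mem_nil,
        or_false] at hn
      have hk : ∀ p ∈ K' ⊓ c.inner, key (c.π p) ∈ key '' (c.π '' ((K' ⊓ c.inner : Subgroup G) : Set G)) :=
        fun p hp => ⟨_, ⟨p, hp, rfl⟩, rfl⟩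
      have hmulk : ∀ p ∈ K' ⊓ c.inner, ∀ p' ∈ K' ⊓ c.inner, mulK (key (c.π p)) (key (c.π p')) = key (c.π (p * p')) :=
        fun p hp p' hp' => by rw [c.π_mul p p' hp.2.1 hp'.2.1, key_mul hp.2.2]
      rcases hn with e | e | e | e | e | e | e <;> rw [e]
      · rw [show idK = key (c.π 1) by rw [c.π_one]; rfl]; exact hk 1 (one_mem _)
      · exact hk q hq
      · rw [← ea]; exact hk a ha
      · rw [← eb]; exact hk b hb
      · rw [← ea, hmulk q hq a ha]; exact hk _ (mul_mem hq ha)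
      · rw [← eb, hmulk q hq b hb]; exact hk _ (mul_mem hq hb)
      · rw [← ea, ← eb, hmulk a ha b hb]; exact hk _ (mul_mem ha hb)
    have h9le : 9 ≤ (c.β '' (D : Set G)).ncard := by
      refine le_trans h9 ?_
      rw [← List.toFinset_card_of_nodup (List.nodup_dedup _), ← Set.ncard_coe_finset]
      refine Set.ncard_le_ncard ?_ (Set.toFinite _)
      intro v hv'
      simp only [Finset.mem_coe, List.mem_toFinset, List.mem_dedup, List.mem_flatMap, imgs, List.mem_map,
        List.mem_cons, List.not_mem_nil, or_false] at hv'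
      obtain ⟨_, ⟨x, hx, rfl⟩, _, ⟨y, hy, rfl⟩, e | e⟩ := hv' <;> rw [e, ev_key hq.2.2, ← ea, ev_key ha.2.2]
      · exact W.add_mem (himg q hq x hx) (himg a ha y hy)
      · exact W.add_mem (W.add_mem (himg q hq x hx) (himg a ha y hy)) h10W
    obtain ⟨k, hk, ek⟩ := (Nat.dvd_prime_pow Nat.prime_two).1
      (c.card ▸ Subgroup.card_dvd_of_le (inf_le_left : D ≤ J) : Nat.card ↥D ∣ 2 ^ 9)
    have hk5 : 5 ≤ k := by
      by_contra hh
      push Not at hh
      have := Nat.pow_le_pow_right (show 1 ≤ 2 by norm_num) (show k ≤ 4 by omega)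
      omega
    have := Nat.pow_le_pow_right (show 1 ≤ 2 by norm_num) hk5
    have h160 := Nat.mul_le_mul (show 32 ≤ Nat.card ↥D by rw [ek]; exact this) h5le
    omega
  · push Not at hbig
    have h2le : (c.π '' ((K' ⊓ c.inner : Subgroup G) : Set G)).ncard ≤ 2 := by
      refine le_trans (Set.ncard_le_ncard_of_injOn key (t := ({idK, T0K} : Set ℕ)) ?_ ?_ (Set.toFinite _))
        ((Set.ncard_insert_le _ _).trans (by rw [Set.ncard_singleton]))
      · rintro _ ⟨q, hq, rfl⟩
        by_cases e : key (c.π q) = idK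
        · exact Or.inl e
        · exact Or.inr (hbig q hq e)
      · rintro _ ⟨a, ha, rfl⟩ _ ⟨b, hb, rfl⟩ e
        exact key_inj ha.2.2 hb.2.2 e
    have h64 := Nat.mul_le_mul (show Nat.card ↥D ≤ 32 by omega) h2le
    omega

end rotated

/-- The centre is weakly closed in its core. -/
theorem weak_closed (c : ECoord z J) {g : G} (hs : g * z * g⁻¹ ∈ J) : g * z * g⁻¹ = z := by
  by_contra hne
  have h0 : c.β (g * z * g⁻¹) ≠ 0 := fun e => by
    rcases (c.β_ker _ hs).1 e with h | h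
    exacts [c.z_ne_one (conj_eq_one_iff.1 h), hne h]
  have hQ : Q (c.β (g * z * g⁻¹)) = false := by
    apply c.zp_inj
    rw [← c.sq _ hs, show g * z * g⁻¹ * (g * z * g⁻¹) = g * (z * z) * g⁻¹ by group, c.z_sq]
    simp [zp]
  have hh : h (c.β (g * z * g⁻¹)) (c.β (g * z * g⁻¹)) = 0 := by
    have hlt := h_self_cases (c.β (g * z * g⁻¹))
    have h1 : h (c.β (g * z * g⁻¹)) (c.β (g * z * g⁻¹)) ≠ 1 := by simpa [Q] using hQ
    omega
  have e := (vec_words (c.β (g * z * g⁻¹)).code).resolve_left h0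
  rw [if_pos hh, ← key_word, ev_key (wordP_mem _)] at e
  refine (c.twist (wordP (vecWord.getD (c.β (g * z * g⁻¹)).code.val []))⁻¹ (inv_mem (wordP_mem _))).weak_aux hs ?_
  rw [c.twist_β]
  exact (congrArg _ e.symm).trans (Equiv.symm_apply_apply _ _)

end ECoord

end Cfsg.Lib.USixType.Ext
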